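import Mathlib

/-!
A number congruent to one modulo `p` dividing `(p - 1) (1 + n p)`, other than `1` and `1 + n p`,
puts `n` in Brauer's shape.
-/

set_option autoImplicit false

namespace Cfsg.Agent.Block.B10

variable {p n d z : ℕ}

/-- Brauer's shape of `n`. -/
def Shape (p n : ℕ) : Prop :=
  ∃ h u : ℕ, 0 < h ∧ 0 < u ∧ n * (u + 1) = h * u * p + u ^ 2 + u + h

theorem shape_of_dvd (hd1 : 1 < d) (hd2 : d < 1 + n * p) (hmod : d % p = 1)
    (hdvd : d ∣ (p - 1) * (1 + n * p)) : Shape p n := by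
  set u := d / p with hu
  have hd : p * u + 1 = d := by rw [← Nat.div_add_mod d p, hmod]
  have hp2 : 2 ≤ p := by
    rcases Nat.lt_or_ge p 2 with h | h
    · interval_cases p <;> simp_all [Nat.mod_one]
    · exact h
  have hu0 : 0 < u := by
    refine Nat.pos_of_ne_zero fun h0 => ?_
    rw [h0, mul_zero] at hd; omega
  have hun : u < n := by
    refine Nat.lt_of_mul_lt_mul_left (a := p) ?_
    rw [mul_comm p n]; omega
  have hcop : Nat.Coprime d p := by
    rw [← hd]; exact (Nat.coprime_mul_left_add_left 1 p u).2 (Nat.coprime_one_left p)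
  have h1 : d ∣ (u + 1) * (1 + n * p) := by
    have h2 : d ∣ u * ((p - 1) * (1 + n * p)) := hdvd.mul_left u
    have h3 : d ∣ d * (1 + n * p) := dvd_mul_right d _
    have h4 : u * ((p - 1) * (1 + n * p)) + (u + 1) * (1 + n * p) = d * (1 + n * p) := by
      rw [← hd]
      obtain ⟨a, rfl⟩ : ∃ a, p = a + 1 := ⟨p - 1, by omega⟩
      rw [Nat.add_sub_cancel]; ring
    exact (Nat.dvd_add_right h2).1 (h4 ▸ h3)
  have h5 : (u + 1) * (1 + n * p) = (u + 1) * (n - u) * p + (u + 1) * d := by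
    obtain ⟨c, rfl⟩ : ∃ c, n = u + c := ⟨n - u, by omega⟩
    rw [← hd, Nat.add_sub_cancel_left]; ring
  rw [h5] at h1
  obtain ⟨h, hh⟩ := hcop.dvd_of_dvd_mul_right
    ((Nat.dvd_add_left (dvd_mul_left d (u + 1))).1 h1)
  refine ⟨h, u, Nat.pos_of_ne_zero fun h0 => ?_, hu0, ?_⟩
  · rw [h0, mul_zero] at hh
    rcases mul_eq_zero.1 hh with h' | h' <;> omega
  · obtain ⟨c, rfl⟩ : ∃ c, n = u + c := ⟨n - u, by omega⟩
    rw [Nat.add_sub_cancel_left] at hh
    calc (u + c) * (u + 1) = (u + 1) * c + u * (u + 1) := by ring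
      _ = d * h + u * (u + 1) := by rw [hh]
      _ = h * u * p + u ^ 2 + u + h := by rw [← hd]; ring

theorem mod_one_of_dvd (hns : ¬ Shape p n) (hn : 0 < n)
    (hmod : d % p = 1) (hdvd : d ∣ (p - 1) * (1 + n * p)) : d = 1 ∨ d = 1 + n * p := by
  by_contra hcon
  push Not at hcon
  have hp2 : 2 ≤ p := by
    rcases Nat.lt_or_ge p 2 with h | h
    · interval_cases p <;> simp_all [Nat.mod_one]
    · exact h
  have hd0 : d ≠ 0 := fun h => by rw [h] at hmod; simp at hmod
  rcases Nat.lt_or_ge d (1 + n * p) with h | h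
  · exact hns (shape_of_dvd (by omega) h hmod hdvd)
  obtain ⟨k, hk⟩ := hdvd
  have hk1 : k + 1 < p := by
    have h2 : (p - 1) * (1 + n * p) < (p - 1) * d := by
      exact Nat.mul_lt_mul_of_pos_left (by omega) (by omega)
    rw [hk, mul_comm d k] at h2
    have := Nat.lt_of_mul_lt_mul_right h2
    omega
  -- the cofactor is congruent to `-1`
  have h3 : ((k + 1 : ℕ) : ZMod p) = 0 := by
    have h4 : (((p - 1) * (1 + n * p) : ℕ) : ZMod p) = ((d * k : ℕ) : ZMod p) := by rw [hk]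
    have h5 : (d : ZMod p) = 1 := by
      rw [← ZMod.natCast_mod, hmod, Nat.cast_one]
    push_cast [Nat.cast_sub (show 1 ≤ p by omega)] at h4 ⊢
    rw [h5, ZMod.natCast_self] at h4
    linear_combination -h4
  have h6 := Nat.le_of_dvd (by omega) ((ZMod.natCast_eq_zero_iff _ _).1 h3)
  omega

/-- A divisor congruent to minus one modulo `p`. -/
theorem mod_neg_of_dvd (hns : ¬ Shape p n) (hn : 0 < n) (hp : 2 ≤ p)
    (hmod : ((z : ℤ) + 1) % p = 0) (hdvd : z ∣ (p - 1) * (1 + n * p)) :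
    z = p - 1 ∨ z = (p - 1) * (1 + n * p) := by
  obtain ⟨k, hk⟩ := hdvd
  have : Fact (1 < p) := ⟨by omega⟩
  have h1 : k % p = 1 := by
    have h4 : (((p - 1) * (1 + n * p) : ℕ) : ZMod p) = ((z * k : ℕ) : ZMod p) := by rw [hk]
    have h5 : (z : ZMod p) = -1 := by
      have h : (((z : ℤ) + 1 : ℤ) : ZMod p) = 0 :=
        (ZMod.intCast_zmod_eq_zero_iff_dvd _ _).2 (Int.dvd_of_emod_eq_zero hmod)
      push_cast at h
      linear_combination h
    push_cast [Nat.cast_sub (show 1 ≤ p by omega)] at h4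
    rw [h5, ZMod.natCast_self] at h4
    have h6 : (k : ZMod p) = ((1 : ℕ) : ZMod p) := by push_cast; linear_combination h4
    rw [ZMod.natCast_eq_natCast_iff'] at h6
    rw [h6]; exact Nat.one_mod_eq_one.2 (by omega)
  rcases mod_one_of_dvd hns hn h1 ⟨z, hk.trans (mul_comm z k)⟩ with h | h
  · exact .inr (by rw [hk, h, mul_one])
  · refine .inl (Nat.eq_of_mul_eq_mul_right (show 0 < k by omega) ?_)
    rw [← hk, h]

theorem one_mod_of_dvd (hns : ¬ Shape p n) (hn : 0 < n)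
    (hmod : ((z : ℤ) - 1) % p = 0) (hdvd : z ∣ (p - 1) * (1 + n * p)) (hp : 2 ≤ p) :
    z = 1 ∨ z = 1 + n * p := by
  refine mod_one_of_dvd hns hn ?_ hdvd
  have h := (Int.modEq_iff_dvd.2 (Int.dvd_of_emod_eq_zero hmod) : (1 : ℤ) ≡ z [ZMOD p])
  have h2 : z % p = 1 % p := Int.natCast_modEq_iff.1 (by exact_mod_cast h.symm)
  rw [h2]; exact Nat.one_mod_eq_one.2 (by omega)

end Cfsg.Agent.Block.B10
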