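import Mathlib
import Cfsg.Agent.Lib.Char.SelfCentChars
import Cfsg.Agent.Lib.Char.SmallDegreeSection
import Cfsg.Agent.Lib.Char.DefectOneFamilies
import Cfsg.Agent.Lib.Block.Cube.Perfect

/-!
A perfect group with a Sylow subgroup of prime order `p`: the principal block, with the sums of the
values of its members over the elements of order `p`.
-/

set_option autoImplicit false
set_option linter.unusedSectionVars false
set_option linter.style.haveILetI false

namespace Cfsg.Agent.Block.B10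

open scoped ComplexConjugate
open Cfsg Cfsg.Agent.Block Cfsg.Agent.Char Cfsg.Agent.Char.BP Cfsg.Agent.Char.Spec
  Cfsg.Agent.Char.DefectOne Cfsg.Agent.Char.SmallDeg

universe u

variable {G : Type u} [Group G] [Fintype G] {p : ℕ} [hp : Fact p.Prime]

/-- The normalizer of a Sylow subgroup of order `p` of a perfect group is not its centralizer. -/
theorem normalizer_not_le_centralizer (hperf : commutator G = ⊤) (Q : Sylow p G)
    (hQ : Nat.card (Q : Subgroup G) = p) :
    ¬ Subgroup.normalizer ((Q : Subgroup G) : Set G) ≤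
      Subgroup.centralizer ((Q : Subgroup G) : Set G) := by
  intro hN
  haveI : IsCyclic (Q : Subgroup G) := isCyclic_of_prime_card hQ
  haveI : IsMulCommutative (Q : Subgroup G) :=
    ⟨⟨fun a b => by letI : CommGroup (Q : Subgroup G) := IsCyclic.commGroup; exact mul_comm a b⟩⟩
  have hc := MonoidHom.ker_transferSylow_isComplement' Q hN
  have hker : (MonoidHom.transferSylow Q hN).ker = ⊤ := by
    rw [eq_top_iff, ← hperf]
    letI : CommGroup (Q : Subgroup G) := IsCyclic.commGroup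
    exact Abelianization.commutator_subset_ker (MonoidHom.transferSylow Q hN)
  rw [hker] at hc
  have h1 := hc.card_mul_card
  rw [Subgroup.card_top, hQ] at h1
  have h2 := Nat.card_pos (α := G)
  nlinarith [hp.out.two_le]

theorem sum_periods (R : Subgroup (ZMod p)ˣ) [Fintype ((ZMod p)ˣ ⧸ R)] :
    ∀ q : (ZMod p)ˣ ⧸ R, (∑ i : (ZMod p)ˣ, cosum R q (i : ZMod p)) = -(Nat.card R : ℂ) ∧
      (∑ i : (ZMod p)ˣ, cosum R q (i : ZMod p) * conj (cosum R q (i : ZMod p))) =
        (Nat.card R : ℂ) * ((p : ℂ) - (Nat.card R : ℂ)) := by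
  classical
  intro q
  have hfib : ∀ t : (ZMod p)ˣ ⧸ R,
      ((Finset.univ.filter fun i : (ZMod p)ˣ => (i : (ZMod p)ˣ ⧸ R) * q = t).card : ℂ) =
        (Nat.card R : ℂ) := by
    intro t
    rw [Nat.card_eq_fintype_card, ← Finset.card_univ]
    congr 1
    symm
    refine Finset.card_bij (fun (w : R) _ => (t * q⁻¹).out * (w : (ZMod p)ˣ)) (fun w _ => ?_)
      (fun w _ w' _ h => Subtype.ext (mul_left_cancel h)) fun j hj => ?_
    · refine Finset.mem_filter.2 ⟨Finset.mem_univ _, ?_⟩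
      rw [QuotientGroup.mk_mul_of_mem _ w.2, QuotientGroup.out_eq', inv_mul_cancel_right]
    · refine ⟨⟨(t * q⁻¹).out⁻¹ * j, ?_⟩, Finset.mem_univ _, mul_inv_cancel_left _ _⟩
      rw [← QuotientGroup.eq, QuotientGroup.out_eq', ← (Finset.mem_filter.1 hj).2,
        mul_inv_cancel_right]
  have hsh : ∀ i : (ZMod p)ˣ,
      cosum R q (i : ZMod p) = cosum R ((i : (ZMod p)ˣ ⧸ R) * q) 1 := fun i => by
    have h := cosum_smul R q i (1 : ZMod p)
    rwa [one_mul] at h
  refine ⟨?_, ?_⟩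
  · have h1 : ∀ j : (ZMod p)ˣ, ∑ i : (ZMod p)ˣ, ψc ((i : ZMod p) * (j : ZMod p)) = -1 := by
      intro j
      have h3 : ∑ i : (ZMod p)ˣ, ψc ((i : ZMod p) * (j : ZMod p)) =
          ∑ x ∈ Finset.univ.erase (0 : ZMod p), ψc (x * (j : ZMod p)) := by
        refine Finset.sum_bij (fun (i : (ZMod p)ˣ) _ => (i : ZMod p)) (fun i _ => by simp)
          (fun i _ i' _ e1 => Units.ext e1) (fun x hx => ?_) fun i _ => rfl
        exact ⟨Units.mk0 x (Finset.ne_of_mem_erase hx), Finset.mem_univ _, rfl⟩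
      rw [h3, Finset.sum_erase_eq_sub (Finset.mem_univ _), ψc_sum, if_neg j.ne_zero, zero_mul,
        AddChar.map_zero_eq_one]
      ring
    simp only [cosum]
    rw [Finset.sum_comm, Finset.sum_congr rfl (g := fun j : (ZMod p)ˣ =>
      if (j : (ZMod p)ˣ ⧸ R) = q then (-1 : ℂ) else 0) fun j _ => by
        split
        · exact h1 j
        · simp, ← Finset.sum_filter, Finset.sum_const, nsmul_eq_mul, mul_neg, mul_one]
    have h := hfib (q * q)
    rw [show (Finset.univ.filter fun i : (ZMod p)ˣ => (i : (ZMod p)ˣ ⧸ R) * q = q * q) =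
      Finset.univ.filter fun i : (ZMod p)ˣ => (i : (ZMod p)ˣ ⧸ R) = q from
      Finset.filter_congr fun i _ => mul_left_inj q] at h
    rw [h]
  · rw [← Finset.sum_fiberwise Finset.univ fun i : (ZMod p)ˣ => (i : (ZMod p)ˣ ⧸ R) * q,
      Finset.sum_congr rfl (g := fun t => (Nat.card R : ℂ) * (cosum R t 1 * conj (cosum R t 1)))
        fun t _ => by
          rw [Finset.sum_congr rfl (g := fun _ => cosum R t 1 * conj (cosum R t 1)) fun i hi => by
            rw [hsh i, (Finset.mem_filter.1 hi).2], Finset.sum_const, nsmul_eq_mul, hfib t],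
      ← Finset.mul_sum]
    congr 1
    exact Char.SCP.period_norm R one_ne_zero

/-- The sum of a class function over the elements of order `p`. -/
theorem sum_order_p (Q : Sylow p G) (hQ : Nat.card (Q : Subgroup G) = p) {u₀ : G}
    (hu₀ : u₀ ∈ (Q : Subgroup G)) (hu₁ : u₀ ≠ 1) {F : G → ℂ}
    (hF : ∀ g h : G, F (h * g * h⁻¹) = F g) :
    ∑ g ∈ Finset.univ.filter (fun g : G => orderOf g = p), F g =
      ((Subgroup.normalizer ((Q : Subgroup G) : Set G)).index : ℂ) *
        ∑ i : (ZMod p)ˣ, F (pw u₀ (i : ZMod p)) := by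
  classical
  letI := Fintype.ofFinite (Sylow p G)
  set A := ∑ i : (ZMod p)ˣ, F (pw u₀ (i : ZMod p))
  have hR : ∀ R : Sylow p G, Nat.card (R : Subgroup G) = p := fun R => by
    obtain ⟨c, hc⟩ := MulAction.exists_smul_eq G Q R
    rw [← hc, Sylow.coe_subgroup_smul]
    exact (Nat.card_congr ((Q : Subgroup G).equivMapOfInjective _
      (MulAut.conj c).injective).toEquiv).symm.trans hQ
  have hfib : ∀ R : Sylow p G,
      ∑ g ∈ Finset.univ.filter (fun g : G => g ∈ (R : Subgroup G) ∧ g ≠ 1), F g = A := by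
    intro R
    obtain ⟨c, hc⟩ := MulAction.exists_smul_eq G Q R
    have hmem : ∀ g, g ∈ (R : Subgroup G) ↔ c⁻¹ * g * c ∈ (Q : Subgroup G) := fun g => by
      rw [← hc, Sylow.coe_subgroup_smul]
      constructor
      · rintro ⟨w, hw, rfl⟩
        simp only [mul_assoc]
        simpa using (show w ∈ (Q : Subgroup G) from hw)
      · exact fun h => ⟨_, h, by simp [mul_assoc]⟩
    refine (Finset.sum_bij (fun (i : (ZMod p)ˣ) _ => c * pw u₀ (i : ZMod p) * c⁻¹) (fun i _ => ?_)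
      (fun i _ i' _ h => Units.ext (pw_inj hQ hu₀ hu₁ (mul_left_cancel (mul_right_cancel h))))
      (fun g hg => ?_) fun i _ => (hF _ c).symm).symm
    · refine Finset.mem_filter.2 ⟨Finset.mem_univ _, (hmem _).2 ?_, fun h => ?_⟩
      · simpa [mul_assoc] using pw_mem hQ hu₀ hu₁ (i : ZMod p)
      · exact pw_ne_one hQ hu₀ hu₁ i.ne_zero (conj_eq_one_iff.1 h)
    · obtain ⟨h1, h2⟩ := (Finset.mem_filter.1 hg).2
      obtain ⟨i, hi⟩ := exists_pw hQ hu₀ hu₁ ((hmem g).1 h1)
      have hg' : c * pw u₀ i * c⁻¹ = g := by rw [hi]; group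
      refine ⟨Units.mk0 i fun h0 => h2 ?_, Finset.mem_univ _, hg'⟩
      rw [← hg', h0, pw, ZMod.val_zero, pow_zero, mul_one, mul_inv_cancel]
  have hbij : ∑ g ∈ Finset.univ.filter (fun g : G => orderOf g = p), F g =
      ∑ x ∈ Finset.univ.sigma
        (fun R : Sylow p G => Finset.univ.filter (fun g : G => g ∈ (R : Subgroup G) ∧ g ≠ 1)),
        F x.2 := by
    refine (Finset.sum_bij (fun (x : (_ : Sylow p G) × G) _ => x.2) (fun x hx => ?_)
      (fun x hx x' hx' h => ?_) (fun g hg => ?_) fun x _ => rfl).symm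
    · obtain ⟨h1, h2⟩ := (Finset.mem_filter.1 (Finset.mem_sigma.1 hx).2).2
      exact Finset.mem_filter.2 ⟨Finset.mem_univ _, by
        rw [← Nat.card_zpowers, mem_zpowers_of_prime (hR x.1) h1 h2, hR]⟩
    · obtain ⟨R, g⟩ := x
      obtain ⟨R', g'⟩ := x'
      obtain rfl : g = g' := h
      obtain ⟨h1, h2⟩ := (Finset.mem_filter.1 (Finset.mem_sigma.1 hx).2).2
      obtain ⟨h1', -⟩ := (Finset.mem_filter.1 (Finset.mem_sigma.1 hx').2).2
      obtain rfl : R = R' := Sylow.ext (((mem_zpowers_of_prime (hR R) h1 h2).symm).trans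
        (mem_zpowers_of_prime (hR R') h1' h2))
      rfl
    · have hg' := (Finset.mem_filter.1 hg).2
      obtain ⟨R, hR'⟩ := (IsPGroup.of_card (n := 1) (by rw [Nat.card_zpowers, hg', pow_one]) :
        IsPGroup p (Subgroup.zpowers g)).exists_le_sylow
      refine ⟨⟨R, g⟩, Finset.mem_sigma.2 ⟨Finset.mem_univ _, Finset.mem_filter.2
        ⟨Finset.mem_univ _, hR' (Subgroup.mem_zpowers g), fun h => ?_⟩⟩, rfl⟩
      have h' : g = 1 := h
      rw [h', orderOf_one] at hg'
      exact hp.out.ne_one hg'.symm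
  rw [hbij, Finset.sum_sigma, Finset.sum_congr rfl fun R _ => hfib R, Finset.sum_const,
    Finset.card_univ, nsmul_eq_mul, ← Nat.card_eq_fintype_card, Q.card_eq_index_normalizer]
  rfl

/-- What the principal block of `p` gives. -/
structure Data (G : Type u) [Group G] [Fintype G] (p n : ℕ) [Fact p.Prime] where
  Q : Sylow p G
  e : ℕ
  r : ℕ
  X : Finset (IrrCharacter G)
  Y : Finset (IrrCharacter G)
  s : IrrCharacter G → ℤ
  δ : ℤ
  u₀ : G
  mem_u₀ : u₀ ∈ (Q : Subgroup G)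
  u₀_ne : u₀ ≠ 1
  card_Q : Nat.card (Q : Subgroup G) = p
  idx : (Subgroup.normalizer ((Q : Subgroup G) : Set G)).index = 1 + n * p
  e_eq : (CG (Q : Subgroup G)).relIndex (Subgroup.normalizer ((Q : Subgroup G) : Set G)) = e
  her : e * r + 1 = p
  two_le : 2 ≤ e
  shape : (r = 1 ∧ Y = ∅ ∧ X.card = p) ∨ (2 ≤ r ∧ X.card = e ∧ Y.card = r)
  triv : trivialIrr G ∈ X
  s_triv : s (trivialIrr G) = 1
  s_sign : ∀ χ ∈ X, s χ = 1 ∨ s χ = -1
  δ_sign : δ = 1 ∨ δ = -1
  valX : ∀ χ ∈ X, ∀ g : G, orderOf g = p → (χ : G → ℂ) g = (s χ : ℂ)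
  constX : ∀ χ ∈ X, ∀ u ∈ (Q : Subgroup G), u ≠ 1 → ∀ v ∈ CG (Q : Subgroup G),
    ¬ p ∣ orderOf v → (χ : G → ℂ) (u * v) = (χ : G → ℂ) u
  congX : ∀ χ ∈ X, (charDegree (χ : G → ℂ) : ℤ) ≡ s χ [ZMOD p]
  congY : ∀ ψ ∈ Y, (charDegree (ψ : G → ℂ) : ℤ) ≡ -δ * (e : ℤ) [ZMOD p]
  sumY : ∀ ψ ∈ Y, ∑ g ∈ Finset.univ.filter (fun g : G => orderOf g = p), (ψ : G → ℂ) g =
    (δ : ℂ) * (e : ℂ) * (1 + n * p : ℕ)
  normY : ∀ ψ ∈ Y, ∑ g ∈ Finset.univ.filter (fun g : G => orderOf g = p),
    (ψ : G → ℂ) g * conj ((ψ : G → ℂ) g) = (1 + n * p : ℕ) * ((e : ℂ) * ((p : ℂ) - (e : ℂ)))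
  relX : Y = ∅ → ∀ g : G, ¬ p ∣ orderOf g → ∑ χ ∈ X, (s χ : ℂ) * (χ : G → ℂ) g = 0
  relY : ∀ ψ ∈ Y, ∀ g : G, ¬ p ∣ orderOf g →
    ∑ χ ∈ X, (s χ : ℂ) * (χ : G → ℂ) g + (δ : ℂ) * (ψ : G → ℂ) g = 0

theorem exists_data (hperf : commutator G = ⊤) (Q : Sylow p G)
    (hQ : Nat.card (Q : Subgroup G) = p) {n : ℕ} (hn : Nat.card (Sylow p G) = 1 + n * p) :
    Nonempty (Data G p n) := by
  classical
  obtain ⟨M, hM⟩ := exists_isPModular p hp.out
  set P := (Q : Subgroup G) with hPdef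
  set B := principalBlock M G
  have hPg : IsPGroup p P := Q.isPGroup'
  have hsyl : ¬ p ∣ P.index := Q.not_dvd_index
  have hfac : (Nat.card G).factorization p = 1 := by
    have h1 := Q.card_eq_multiplicity
    rw [show Nat.card (Q : Subgroup G) = p from hQ] at h1
    exact ((Nat.pow_eq_self_iff hp.out.one_lt).1 h1.symm)
  have htrivB : trivialIrr G ∈ B := trivial_mem_principalBlock hM
  have hd1 : charDegree (trivialIrr G : G → ℂ) = 1 := Nat.cast_injective (R := ℂ)
    ((charDeg_spec' (trivialIrr G)).symm.trans (Nat.cast_one (R := ℂ)).symm)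
  have hd0 : blockDefect p B ≠ 0 := by
    have h1 : sInf ((fun χ : IrrCharacter G => (charDegree (χ : G → ℂ)).factorization p) '' B) = 0 :=
      Nat.eq_zero_of_le_zero (Nat.sInf_le ⟨trivialIrr G, htrivB, by simp [hd1]⟩)
    rw [blockDefect, h1, hfac]
    omega
  obtain ⟨u₀, hu₀, hu₁⟩ : ∃ u ∈ P, u ≠ 1 := by
    refine (Subgroup.bot_or_exists_ne_one P).resolve_left fun h => hp.out.one_lt.ne ?_
    rw [← hQ, h, Subgroup.card_bot]
  have hord : orderOf u₀ = p := orderOf_gen hQ hu₀ hu₁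
  set N := Subgroup.normalizer (P : Set G) with hN
  letI := Fintype.ofFinite (CG P)
  have hθ0 : trivialIrr (CG P) ∈ principalBlock M (CG P) := trivial_mem_principalBlock hM
  have hθP0 : ∀ x : CG P, (x : G) ∈ P → (trivialIrr (CG P) : CG P → ℂ) x =
      (trivialIrr (CG P) : CG P → ℂ) 1 := fun _ _ => rfl
  have haB0 : OfB p M B (⟨P, principalBlock M (CG P)⟩ : BrauerPairIdx G) := prPair_ofB hM hPg
  have hT0 : ∀ g : G, g ∈ N ↔ (g ∈ Subgroup.normalizer (P : Set G) ∧ ∀ c c' : CG P,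
      (c' : G) = g * c * g⁻¹ → (trivialIrr (CG P) : CG P → ℂ) c' =
        (trivialIrr (CG P) : CG P → ℂ) c) :=
    fun g => ⟨fun h => ⟨h, fun c c' _ => rfl⟩, fun h => h.1⟩
  obtain ⟨R, X, y, c, ε, hD⟩ := DefectOne.exists_data hM hQ hsyl hθ0 hθP0
    isPBlock_principalBlock haB0 hd0 hT0 hu₀ hu₁
  obtain ⟨hdX, hdY⟩ := degrees hM hQ hsyl hθ0 hθP0 haB0 hT0 hu₀ hu₁ hD
  have hθd : charDegree (trivialIrr (CG P) : CG P → ℂ) = 1 := Nat.cast_injective (R := ℂ)
    ((charDeg_spec' (trivialIrr (CG P))).symm.trans (Nat.cast_one (R := ℂ)).symm)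
  have hrel : N.relIndex N = 1 := Subgroup.relIndex_self N
  rw [hrel, hθd] at hdX hdY
  obtain ⟨-, hedvd, -⟩ := counts hD
  set e := (CG P).relIndex N with he
  letI : Fintype ((ZMod p)ˣ ⧸ R) := Fintype.ofFinite _
  set r := Fintype.card ((ZMod p)ˣ ⧸ R) with hr
  have her : e * r + 1 = p := by
    have h1 := R.card_eq_card_quotient_mul_card_subgroup
    rw [hD.card_R, Nat.card_eq_fintype_card, ZMod.card_units, Nat.card_eq_fintype_card, ← hr] at h1
    have := hp.out.two_le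
    rw [← he] at h1
    rw [mul_comm e r]
    omega
  have he2 : 2 ≤ e := by
    have h0 : e ≠ 0 := fun h0 => by
      rw [h0, zero_mul] at her; exact hp.out.ne_one her.symm
    have h1 : e ≠ 1 := fun h1 => normalizer_not_le_centralizer hperf Q hQ
      (Subgroup.relIndex_eq_one.1 h1)
    omega
  have hidx : N.index = 1 + n * p := by rw [← hn, Q.card_eq_index_normalizer]; rfl
  have hmemX : ∀ χ ∈ X, χ ∈ B := fun χ h => (hD.mem_iff χ).2 (Or.inl h)
  have hmemY : ∀ q, y q ∈ B := fun q => (hD.mem_iff _).2 (Or.inr ⟨q, rfl⟩)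
  have h1r : ¬ p ∣ orderOf (1 : CG P) := by rw [orderOf_one]; exact hp.out.not_dvd_one
  -- the values next to `P`
  have hvX : ∀ χ ∈ X, ∀ i : ZMod p, i ≠ 0 → ∀ v : CG P, ¬ p ∣ orderOf v →
      (χ : G → ℂ) (pw u₀ i * v) = -(c χ : ℂ) := fun χ hχ i hi v hv => by
    rw [value_principal hM hQ (hmemX χ hχ) (pw_mem hQ hu₀ hu₁ i) (pw_ne_one hQ hu₀ hu₁ hi) v.2
      (by rwa [Subgroup.orderOf_coe]), hD.sct_X χ hχ i hi v hv]
    exact mul_one _
  have hvY : ∀ q, ∀ i : ZMod p, i ≠ 0 → ∀ v : CG P, ¬ p ∣ orderOf v →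
      (y q : G → ℂ) (pw u₀ i * v) = (ε : ℂ) * cosum R q i := fun q i hi v hv => by
    rw [value_principal hM hQ (hmemY q) (pw_mem hQ hu₀ hu₁ i) (pw_ne_one hQ hu₀ hu₁ hi) v.2
      (by rwa [Subgroup.orderOf_coe]), hD.sct_Y q i hi v hv]
    exact mul_one _
  have hv1X : ∀ χ ∈ X, ∀ i : (ZMod p)ˣ, (χ : G → ℂ) (pw u₀ (i : ZMod p)) = -(c χ : ℂ) :=
    fun χ hχ i => by simpa using hvX χ hχ _ i.ne_zero 1 h1r
  have hv1Y : ∀ q, ∀ i : (ZMod p)ˣ,
      (y q : G → ℂ) (pw u₀ (i : ZMod p)) = (ε : ℂ) * cosum R q i :=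
    fun q i => by simpa using hvY q _ i.ne_zero 1 h1r
  have hcard : (Nat.card R : ℂ) = (e : ℂ) := by rw [hD.card_R]
  have hεε : (ε : ℂ) * (ε : ℂ) = 1 := by rcases hD.ε_sign with h | h <;> simp [h]
  set Y := Finset.univ.image y with hY
  have hsum : ∀ q, ∑ g ∈ Finset.univ.filter (fun g : G => orderOf g = p), (y q : G → ℂ) g =
      (1 + n * p : ℕ) * (-(ε : ℂ) * e) := fun q => by
    rw [sum_order_p Q hQ hu₀ hu₁ fun g h => irr_classFun (y q) g h,
      Finset.sum_congr rfl fun i _ => hv1Y q i, ← Finset.mul_sum, (sum_periods R q).1, hcard, hidx]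
    ring
  have hnorm : ∀ q, ∑ g ∈ Finset.univ.filter (fun g : G => orderOf g = p),
      (y q : G → ℂ) g * conj ((y q : G → ℂ) g) =
        (1 + n * p : ℕ) * ((e : ℂ) * ((p : ℂ) - e)) := fun q => by
    rw [sum_order_p Q hQ hu₀ hu₁ fun g h => by rw [irr_classFun (y q) g h],
      Finset.sum_congr rfl (g := fun i : (ZMod p)ˣ => cosum R q i * conj (cosum R q i))
        fun i _ => by
          rw [hv1Y q i, map_mul, map_intCast, mul_mul_mul_comm, hεε, one_mul],
      (sum_periods R q).2, hcard, hidx]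
  have hconj : ∀ g : G, orderOf g = p → ∃ i : (ZMod p)ˣ, ∀ χ : IrrCharacter G,
      (χ : G → ℂ) g = (χ : G → ℂ) (pw u₀ (i : ZMod p)) := by
    intro g hg
    obtain ⟨R', hR'⟩ := (IsPGroup.of_card (n := 1) (by rw [Nat.card_zpowers, hg, pow_one]) :
      IsPGroup p (Subgroup.zpowers g)).exists_le_sylow
    obtain ⟨k, hk⟩ := MulAction.exists_smul_eq G R' Q
    have hmem : k * g * k⁻¹ ∈ P := by
      rw [hPdef, ← hk, Sylow.coe_subgroup_smul]
      exact ⟨g, hR' (Subgroup.mem_zpowers g), rfl⟩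
    obtain ⟨i, hi⟩ := exists_pw hQ hu₀ hu₁ hmem
    have hi0 : i ≠ 0 := fun h0 => by
      rw [h0, pw, ZMod.val_zero, pow_zero, eq_comm, conj_eq_one_iff] at hi
      rw [hi, orderOf_one] at hg
      exact hp.out.ne_one hg.symm
    exact ⟨Units.mk0 i hi0, fun χ => by rw [Units.val_mk0, hi, irr_classFun χ g k]⟩
  have htv : ∀ g : G, (trivialIrr G : G → ℂ) g = 1 := fun _ => rfl
  by_cases hr1 : r = 1
  · -- the exceptional member joins the others
    haveI : Subsingleton ((ZMod p)ˣ ⧸ R) := Fintype.card_le_one_iff_subsingleton.1 hr1.le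
    set q₀ : (ZMod p)ˣ ⧸ R := ((1 : (ZMod p)ˣ) : (ZMod p)ˣ ⧸ R)
    have hcos : ∀ i : (ZMod p)ˣ, cosum R q₀ (i : ZMod p) = -1 := fun i => by
      have h : ∀ i : (ZMod p)ˣ, cosum R q₀ (i : ZMod p) = cosum R q₀ 1 := fun i => by
        have h := cosum_smul R q₀ i (1 : ZMod p)
        rwa [one_mul, Subsingleton.elim (_ * q₀) q₀] at h
      have h2 := (sum_periods R q₀).1
      rw [Finset.sum_congr rfl fun i _ => h i, Finset.sum_const, Finset.card_univ, ZMod.card_units,
        nsmul_eq_mul, hcard, show e = p - 1 by rw [hr1, mul_one] at her; omega] at h2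
      have h3 : ((p - 1 : ℕ) : ℂ) ≠ 0 := Nat.cast_ne_zero.2 (by have := hp.out.two_le; omega)
      rw [h i]
      exact mul_left_cancel₀ h3 (by linear_combination h2)
    have hY0 : y q₀ ∉ X := hD.disj q₀
    set s : IrrCharacter G → ℤ := fun χ => if χ ∈ X then -c χ else -ε with hs
    have hval : ∀ χ ∈ insert (y q₀) X, ∀ i : (ZMod p)ˣ, ∀ v : CG P, ¬ p ∣ orderOf v →
        (χ : G → ℂ) (pw u₀ (i : ZMod p) * v) = (s χ : ℂ) := by
      intro χ hχ i v hv
      rcases Finset.mem_insert.1 hχ with rfl | h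
      · rw [hvY q₀ _ i.ne_zero v hv, hcos i, hs]; simp [hY0]
      · rw [hvX χ h _ i.ne_zero v hv, hs]; simp [h]
    have htrivX : trivialIrr G ∈ insert (y q₀) X := by
      rcases (hD.mem_iff _).1 htrivB with h | ⟨q, hq⟩
      · exact Finset.mem_insert_of_mem h
      · rw [← hq, Subsingleton.elim q q₀]; exact Finset.mem_insert_self _ _
    refine ⟨⟨Q, e, r, insert (y q₀) X, ∅, s, 1, u₀, hu₀, hu₁, hQ, hidx, he.symm, her, he2,
      .inl ⟨hr1, rfl, ?_⟩, htrivX, ?_, ?_, .inl rfl, ?_, ?_, ?_, by simp, by simp, by simp, ?_,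
      by simp⟩⟩
    · rw [Finset.card_insert_of_notMem hY0, hD.card_X, ← he]
      rw [hr1, mul_one] at her
      exact her
    · have h := hval _ htrivX 1 1 h1r
      rw [htv] at h
      exact_mod_cast h.symm
    · intro χ hχ
      rcases Finset.mem_insert.1 hχ with rfl | h
      · rcases hD.ε_sign with h | h <;> simp [hs, hY0, h]
      · rcases hD.c_sign χ h with h' | h' <;> simp [hs, h, h']
    · intro χ hχ g hg
      obtain ⟨i, hi⟩ := hconj g hg
      rw [hi χ]
      simpa using hval χ hχ i 1 h1r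
    · intro χ hχ u hu hu1 v hv hvr
      obtain ⟨i, rfl⟩ := exists_pw hQ hu₀ hu₁ hu
      have hi : i ≠ 0 := fun h0 => hu1 (by rw [h0, pw, ZMod.val_zero, pow_zero])
      have h1 := hval χ hχ (Units.mk0 i hi) ⟨v, hv⟩ (by rwa [Subgroup.orderOf_mk])
      have h2 := hval χ hχ (Units.mk0 i hi) 1 h1r
      rw [Units.val_mk0] at h1 h2
      rw [OneMemClass.coe_one, mul_one] at h2
      rw [h2]; exact h1
    · intro χ hχ
      rcases Finset.mem_insert.1 hχ with rfl | h
      · have h1 := hdY q₀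
        simp only [mul_one] at h1
        rw [hr1, mul_one] at her
        refine h1.trans ?_
        simp only [hs, hY0, if_false]
        rw [Int.modEq_iff_dvd]
        exact ⟨-ε, by rw [← her]; push_cast; ring⟩
      · simpa [hs, h] using hdX χ h
    · intro _ g hg
      have h1 := hD.regular q₀ g hg
      rw [Finset.sum_insert hY0, Finset.sum_congr rfl (g := fun χ : IrrCharacter G =>
        -((c χ : ℂ) * (χ : G → ℂ) g)) fun χ hχ => by simp [hs, hχ],
        Finset.sum_neg_distrib, show s (y q₀) = -ε by simp [hs, hY0]]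
      push_cast
      linear_combination -h1
  · have hr2 : 2 ≤ r := by
      have : 0 < r := Fintype.card_pos
      omega
    have htrivX : trivialIrr G ∈ X := by
      rcases (hD.mem_iff _).1 htrivB with h | ⟨q, hq⟩
      · exact h
      exfalso
      have h1 := (sum_periods R q).1
      rw [Finset.sum_congr rfl (g := fun _ => (ε : ℂ)) fun i _ => by
        have h := hv1Y q i
        rw [hq, htv] at h
        linear_combination (-(cosum R q (i : ZMod p))) * hεε - (ε : ℂ) * h,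
        Finset.sum_const, Finset.card_univ, ZMod.card_units, nsmul_eq_mul, hcard] at h1
      have h2 : ((p - 1 : ℕ) : ℤ) * ε = -(e : ℤ) := by exact_mod_cast h1
      have h3 := Nat.mul_le_mul_left e hr2
      rcases hD.ε_sign with h | h <;> rw [h] at h2 <;> omega
    refine ⟨⟨Q, e, r, X, Y, fun χ => -c χ, -ε, u₀, hu₀, hu₁, hQ, hidx, he.symm, her, he2,
      .inr ⟨hr2, by rw [hD.card_X], ?_⟩, htrivX, ?_, ?_, ?_, ?_, ?_, ?_, ?_, ?_, ?_, ?_, ?_⟩⟩
    · rw [hY, Finset.card_image_of_injective _ hD.y_inj, Finset.card_univ]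
    · have h := hv1X _ htrivX 1
      rw [htv] at h
      exact_mod_cast h.symm
    · exact fun χ hχ => by rcases hD.c_sign χ hχ with h | h <;> simp [h]
    · rcases hD.ε_sign with h | h <;> simp [h]
    · intro χ hχ g hg
      obtain ⟨i, hi⟩ := hconj g hg
      rw [hi χ, hv1X χ hχ i]; simp
    · intro χ hχ u hu hu1 v hv hvr
      obtain ⟨i, rfl⟩ := exists_pw hQ hu₀ hu₁ hu
      have hi : i ≠ 0 := fun h0 => hu1 (by rw [h0, pw, ZMod.val_zero, pow_zero])
      have h1 := hvX χ hχ i hi ⟨v, hv⟩ (by rwa [Subgroup.orderOf_mk])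
      have h2 := hvX χ hχ i hi 1 h1r
      rw [OneMemClass.coe_one, mul_one] at h2
      rw [h2]; exact h1
    · exact fun χ hχ => by simpa using hdX χ hχ
    · intro ψ hψ
      obtain ⟨q, -, rfl⟩ := Finset.mem_image.1 hψ
      simpa using hdY q
    · intro ψ hψ
      obtain ⟨q, -, rfl⟩ := Finset.mem_image.1 hψ
      rw [hsum q]; push_cast; ring
    · intro ψ hψ
      obtain ⟨q, -, rfl⟩ := Finset.mem_image.1 hψ
      exact hnorm q
    · exact fun h => absurd h (Finset.univ_nonempty.image y).ne_empty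
    · intro ψ hψ g hg
      obtain ⟨q, -, rfl⟩ := Finset.mem_image.1 hψ
      have h1 := hD.regular q g hg
      rw [Finset.sum_congr rfl (g := fun χ : IrrCharacter G => -((c χ : ℂ) * (χ : G → ℂ) g))
        fun χ _ => by push_cast; ring, Finset.sum_neg_distrib]
      push_cast
      linear_combination -h1

end Cfsg.Agent.Block.B10
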