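import Mathlib
import Cfsg.Agent.Lib.Block.BrauerTen.Local

/-!
A faithful character of degree below `p` which does not see the regular elements commuting with an
element of order `p`.
-/

set_option autoImplicit false
set_option linter.unusedSectionVars false

namespace Cfsg.Agent.Block.B10

open scoped ComplexConjugate
open Cfsg Cfsg.Agent.Block Cfsg.Agent.Char Cfsg.Agent.Char.BP Cfsg.Agent.Char.Spec
  Cfsg.Agent.Char.DefectOne Cfsg.Agent.Char.SmallDeg Module

universe u

variable {G : Type u} [Group G] [Fintype G] {p : ℕ} [hp : Fact p.Prime]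

/-- The regular part seen by a faithful character of small degree. -/
theorem regular_eq_one {χ : IrrCharacter G} (hfaith : ∀ g : G, (χ : G → ℂ) g = (χ : G → ℂ) 1 → g = 1)
    (hd : charDegree (χ : G → ℂ) < p) {x v : G} (hx : orderOf x = p) (hc : Commute x v)
    (hv : ¬ p ∣ orderOf v)
    (hval : ∀ i : ℕ, ¬ p ∣ i → (χ : G → ℂ) (x ^ i * v) = (χ : G → ℂ) (x ^ i)) : v = 1 := by
  classical
  obtain ⟨n, ρ, hρ, hχ, hn, -⟩ := IsIrr.exists_rep χ.2
  have hnd : n = charDegree (χ : G → ℂ) :=
    Nat.cast_injective (R := ℂ) (hn.symm.trans (charDeg_spec' χ))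
  set k := orderOf v with hk
  have hcop : Nat.Coprime p k := hp.out.coprime_iff_not_dvd.2 hv
  set z := x * v with hz
  have hzo : orderOf z = p * k := by
    rw [hz, hc.orderOf_mul_eq_mul_orderOf_of_coprime (by rwa [hx]), hx]
  obtain ⟨A, hA1, hA2⟩ := Nat.chineseRemainder hcop 1 0
  obtain ⟨B, hB1, hB2⟩ := Nat.chineseRemainder hcop 0 1
  have hzA : z ^ A = x := by
    rw [hz, hc.mul_pow, pow_eq_pow_iff_modEq.2 (show A ≡ 1 [MOD orderOf x] by rwa [hx]),
      pow_eq_pow_iff_modEq.2 (show A ≡ 0 [MOD orderOf v] from hA2), pow_one, pow_zero, mul_one]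
  have hzB : z ^ B = v := by
    rw [hz, hc.mul_pow, pow_eq_pow_iff_modEq.2 (show B ≡ 0 [MOD orderOf x] by rwa [hx]),
      pow_eq_pow_iff_modEq.2 (show B ≡ 1 [MOD orderOf v] from hB2), pow_one, pow_zero, one_mul]
  obtain ⟨bb, c, -, hc', hkk⟩ := exists_rep_eigenbasis ρ z
  choose j hj using fun a => exists_ψc (p := p) (z := c a ^ A) (by
    rw [← pow_mul]
    have hdvd : orderOf z ∣ A * p := by
      rw [hzo, mul_comm p]
      exact mul_dvd_mul_right (Nat.modEq_zero_iff_dvd.1 hA2) p
    obtain ⟨t, ht⟩ := hdvd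
    rw [ht, pow_mul, hc', one_pow])
  set f : ZMod p → ℂ := fun l => ∑ a ∈ Finset.univ.filter (fun a => j a = l), c a ^ B with hf
  set g : ZMod p → ℂ := fun l => ((Finset.univ.filter fun a => j a = l).card : ℂ) with hg
  have hpow : ∀ (i : ZMod p) (a), c a ^ (A * i.val) = ψc (i * j a) := fun i a => by
    rw [pow_mul, hj, ← AddChar.map_nsmul_eq_pow, nsmul_eq_mul, ZMod.natCast_zmod_val]
  have hF : ∀ i : ZMod p, (χ : G → ℂ) (x ^ i.val * v) = ∑ l, f l * ψc (i * l) := fun i => by
    rw [← hχ, show x ^ i.val * v = z ^ (A * i.val + B) by rw [pow_add, pow_mul, hzA, hzB], hkk,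
      ← Finset.sum_fiberwise Finset.univ j]
    refine Finset.sum_congr rfl fun l _ => ?_
    rw [hf, Finset.sum_mul]
    refine Finset.sum_congr rfl fun a ha => ?_
    rw [pow_add, hpow, (Finset.mem_filter.1 ha).2, mul_comm]
  have hG : ∀ i : ZMod p, (χ : G → ℂ) (x ^ i.val) = ∑ l, g l * ψc (i * l) := fun i => by
    rw [← hχ, show x ^ i.val = z ^ (A * i.val) by rw [pow_mul, hzA], hkk,
      ← Finset.sum_fiberwise Finset.univ j]
    refine Finset.sum_congr rfl fun l _ => ?_
    rw [Finset.sum_congr rfl (g := fun _ => ψc (i * l)) fun a ha => by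
      rw [hpow, (Finset.mem_filter.1 ha).2], Finset.sum_const, nsmul_eq_mul]
  have hdiff : ∀ l, f l - g l = f 0 - g 0 := fun l => diff_eq (f := f) (g := g) (fun i hi => by
    rw [← hF, ← hG]
    refine hval _ fun h => hi ?_
    rw [← ZMod.natCast_zmod_val i, (ZMod.natCast_eq_zero_iff _ _).2 h]) l
  obtain ⟨l₀, hl₀⟩ : ∃ l : ZMod p, (Finset.univ.filter fun a => j a = l) = ∅ := by
    by_contra hcon
    push Not at hcon
    have h1 : (Finset.univ : Finset (ZMod p)).card ≤
        (Finset.univ : Finset (Fin (finrank ℂ (Fin n → ℂ)))).card :=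
      Finset.card_le_card_of_surjOn j fun l _ => by
        obtain ⟨a, ha⟩ := hcon l
        exact ⟨a, Finset.mem_coe.2 (Finset.mem_univ a), (Finset.mem_filter.1 ha).2⟩
    rw [Finset.card_univ, ZMod.card, Finset.card_univ, Fintype.card_fin,
      Module.finrank_fin_fun] at h1
    omega
  have h0 : f 0 - g 0 = 0 := by
    rw [← hdiff l₀, hf, hg]
    simp only [hl₀, Finset.sum_empty, Finset.card_empty, Nat.cast_zero, sub_zero]
  refine hfaith v ?_
  have h1 := hF 0
  have h2 := hG 0
  rw [ZMod.val_zero, pow_zero, one_mul] at h1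
  rw [ZMod.val_zero, pow_zero] at h2
  rw [h1, h2]
  exact Finset.sum_congr rfl fun l _ => by rw [sub_eq_zero.1 ((hdiff l).trans h0)]

end Cfsg.Agent.Block.B10
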