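import Mathlib
import Cfsg.Agent.Lib.Block.BrauerTen.Arith
import Cfsg.Agent.Lib.Block.BrauerTen.Faithful
import Cfsg.Agent.Lib.Block.FewSylow.Basic

/-!
The degrees in the principal block when `n` is not of Brauer's shape; an element of order `p`
generates its centralizer.
-/

set_option autoImplicit false
set_option linter.unusedSectionVars false
set_option linter.style.haveILetI false

namespace Cfsg.Agent.Block.B10

open scoped ComplexConjugate
open Cfsg Cfsg.Agent.Block Cfsg.Agent.Char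

universe u

variable {G : Type u} [Group G] [Fintype G] {p n : ℕ} [hp : Fact p.Prime]

theorem eq_trivial_of_deg (hperf : commutator G = ⊤) {χ : IrrCharacter G}
    (h : charDegree (χ : G → ℂ) = 1) : χ = trivialIrr G := by
  obtain ⟨l, hl⟩ := linearHom_of_isCharacter (irr_isChar χ)
    (by rw [charDeg_spec', h, Nat.cast_one])
  refine Subtype.ext (funext fun g => ?_)
  rw [hl]
  show (l g : ℂ) = 1
  have hg : g ∈ l.ker := Abelianization.commutator_subset_ker l (hperf ▸ Subgroup.mem_top g)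
  rw [MonoidHom.mem_ker.1 hg, Units.val_one]

namespace Data

variable (D : Data G p n)

theorem e_le : D.e + 1 ≤ p := by
  have h1 := D.her
  have h2 : 1 ≤ D.r := Nat.pos_of_ne_zero fun h0 => by
    rw [h0, mul_zero, zero_add] at h1; exact hp.out.ne_one h1.symm
  have := Nat.le_mul_of_pos_right D.e (show 0 < D.r by omega)
  omega

theorem deg_ne_one (hperf : commutator G = ⊤) {χ : IrrCharacter G} (hne : χ ≠ trivialIrr G) :
    charDegree (χ : G → ℂ) ≠ 1 := fun h => hne (eq_trivial_of_deg hperf h)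

/-- Faithfulness. -/
theorem faith (hperf : commutator G = ⊤) (hcore : pPrimeCore p G = ⊥) {χ : IrrCharacter G}
    (hχ : χ ∈ D.X) (hne : χ ≠ trivialIrr G) :
    ∀ g : G, (χ : G → ℂ) g = (χ : G → ℂ) 1 → g = 1 := by
  classical
  obtain ⟨d, ρ, hρ, hρχ, hd, -⟩ := IsIrr.exists_rep χ.2
  have hmem : ∀ g : G, (χ : G → ℂ) g = (χ : G → ℂ) 1 ↔ g ∈ MonoidHom.ker ρ := fun g => by
    constructor
    · intro h
      exact eq_one_of_trace_eq (ρ g) (orderOf_pos g)
        (by rw [← map_pow, pow_orderOf_eq_one, map_one])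
        (by rw [Module.finrank_fin_fun, ← hd, ← h, ← hρχ]; rfl)
    · intro h
      have h' : ρ g = 1 := h
      rw [← hρχ]
      show LinearMap.trace ℂ _ (ρ g) = LinearMap.trace ℂ _ (ρ 1)
      rw [h', show ρ 1 = 1 from map_one ρ]
  have hker : ¬ p ∣ Nat.card (MonoidHom.ker ρ) := by
    intro hdvd
    obtain ⟨⟨x, hx⟩, hxo⟩ := exists_prime_orderOf_dvd_card' (G := MonoidHom.ker ρ) p hdvd
    rw [Subgroup.orderOf_mk] at hxo
    have h1 : (χ : G → ℂ) 1 = (D.s χ : ℂ) := ((hmem x).2 hx).symm.trans (D.valX χ hχ x hxo)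
    rw [charDeg_spec'] at h1
    have h2 : ((charDegree (χ : G → ℂ) : ℤ) : ℤ) = D.s χ := by exact_mod_cast h1
    have h3 := charDeg_pos χ
    rcases D.s_sign χ hχ with h | h <;> rw [h] at h2
    · exact deg_ne_one hperf hne (by omega)
    · omega
  intro g hg
  have h1 := Cfsg.Agent.Grp.le_pPrimeCore (G := G) (N := MonoidHom.ker ρ) inferInstance
    ((hp.out.coprime_iff_not_dvd.2 hker).symm)
  rw [hcore] at h1
  exact Subgroup.mem_bot.1 (h1 ((hmem g).1 hg))

/-- The degrees divide the number of elements of order `p`. -/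
theorem sum_integral (χ : IrrCharacter G) :
    IsIntegral ℤ ((∑ g ∈ Finset.univ.filter (fun g : G => orderOf g = p), (χ : G → ℂ) g) /
      (χ : G → ℂ) 1) := by
  classical
  have h := isIntegral_sum_div (G := G) χ.2 (f := fun g => if orderOf g = p then (1 : ℂ) else 0)
    (fun g k => by
      show (if orderOf (k * g * k⁻¹) = p then (1 : ℂ) else 0) = _
      rw [← MulAut.conj_apply, MulEquiv.orderOf_eq])
    (fun g => by split; exacts [isIntegral_one, isIntegral_zero])
  simp only [mul_ite, mul_one, mul_zero, ← Finset.sum_filter] at h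
  exact h

include D in
theorem card_ord : (Finset.univ.filter (fun g : G => orderOf g = p)).card = (1 + n * p) * (p - 1) := by
  classical
  have h := sum_order_p D.Q D.card_Q D.mem_u₀ D.u₀_ne (F := fun _ : G => (1 : ℂ)) fun _ _ => rfl
  simp only [Finset.sum_const, nsmul_eq_mul, mul_one, Finset.card_univ, ZMod.card_units, D.idx] at h
  exact_mod_cast h

theorem dvdX {χ : IrrCharacter G} (hχ : χ ∈ D.X) :
    charDegree (χ : G → ℂ) ∣ (p - 1) * (1 + n * p) := by
  classical
  have h := sum_integral (p := p) χ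
  rw [Finset.sum_congr rfl fun g hg => D.valX χ hχ g (Finset.mem_filter.1 hg).2, Finset.sum_const,
    D.card_ord, nsmul_eq_mul, charDeg_spec'] at h
  refine nat_dvd_of_isIntegral_div (charDeg_pos χ).ne' ?_
  rcases D.s_sign χ hχ with hs | hs <;> rw [hs] at h
  · convert h using 1; push_cast; ring
  · convert h.neg using 1; push_cast; ring

theorem dvdY {ψ : IrrCharacter G} (hψ : ψ ∈ D.Y) :
    charDegree (ψ : G → ℂ) ∣ D.e * (1 + n * p) := by
  classical
  have h := sum_integral (p := p) ψ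
  rw [D.sumY ψ hψ, charDeg_spec'] at h
  refine nat_dvd_of_isIntegral_div (charDeg_pos ψ).ne' ?_
  rcases D.δ_sign with hs | hs <;> rw [hs] at h
  · convert h using 1; push_cast; ring
  · convert h.neg using 1; push_cast; ring

theorem degX (hperf : commutator G = ⊤) (hns : ¬ Shape p n) (hn : 0 < n) {χ : IrrCharacter G}
    (hχ : χ ∈ D.X) (hne : χ ≠ trivialIrr G) :
    (D.s χ = 1 ∧ charDegree (χ : G → ℂ) = 1 + n * p) ∨
      (D.s χ = -1 ∧ (charDegree (χ : G → ℂ) = p - 1 ∨
        charDegree (χ : G → ℂ) = (p - 1) * (1 + n * p))) := by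
  have hdvd := D.dvdX hχ
  have hc := D.congX χ hχ
  rcases D.s_sign χ hχ with hs | hs <;> rw [hs] at hc
  · exact .inl ⟨hs, (one_mod_of_dvd hns hn
      (Int.emod_eq_zero_of_dvd (Int.modEq_iff_dvd.1 hc.symm)) hdvd hp.out.two_le).resolve_left
        (deg_ne_one hperf hne)⟩
  · refine .inr ⟨hs, mod_neg_of_dvd hns hn hp.out.two_le (Int.emod_eq_zero_of_dvd ?_) hdvd⟩
    have := Int.modEq_iff_dvd.1 hc.symm
    rwa [sub_neg_eq_add] at this

theorem degY (hns : ¬ Shape p n) (hn : 0 < n) {ψ : IrrCharacter G} (hψ : ψ ∈ D.Y) :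
    (D.δ = 1 ∧ charDegree (ψ : G → ℂ) * D.r = 1 + n * p) ∨
      (D.δ = -1 ∧ (charDegree (ψ : G → ℂ) = D.e ∨
        charDegree (ψ : G → ℂ) = D.e * (1 + n * p))) := by
  have hr : 2 ≤ D.r := by
    rcases D.shape with ⟨-, hY, -⟩ | h
    · exact absurd hψ (hY ▸ Finset.notMem_empty ψ)
    · exact h.1
  have hp1 : D.e * D.r = p - 1 := by have := D.her; omega
  have hdvd : charDegree (ψ : G → ℂ) * D.r ∣ (p - 1) * (1 + n * p) := by
    rw [← hp1, mul_right_comm]
    exact Nat.mul_dvd_mul_right (D.dvdY hψ) _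
  have hc := (D.congY ψ hψ).mul_right (D.r : ℤ)
  have hpz : ((D.e : ℤ) * D.r) = (p : ℤ) - 1 := by
    have h : ((D.e * D.r + 1 : ℕ) : ℤ) = (p : ℤ) := by exact_mod_cast D.her
    push_cast at h; linarith
  rw [neg_mul, neg_mul, mul_assoc, hpz] at hc
  rcases D.δ_sign with hs | hs <;> rw [hs] at hc
  · refine .inl ⟨hs, (one_mod_of_dvd hns hn ?_ hdvd hp.out.two_le).resolve_left fun h1 => ?_⟩
    · refine Int.emod_eq_zero_of_dvd ?_
      have h2 := dvd_sub (Int.modEq_iff_dvd.1 hc.symm) (dvd_refl (p : ℤ))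
      rwa [show (charDegree (ψ : G → ℂ) : ℤ) * D.r - -(1 * ((p : ℤ) - 1)) - p =
        ((charDegree (ψ : G → ℂ) * D.r : ℕ) : ℤ) - 1 by push_cast; ring] at h2
    · have := Nat.eq_one_of_dvd_one (Dvd.intro_left _ h1)
      omega
  · refine .inr ⟨hs, ?_⟩
    have h2 : (p : ℤ) ∣ ((charDegree (ψ : G → ℂ) * D.r : ℕ) : ℤ) + 1 := by
      have h3 := dvd_add (Int.modEq_iff_dvd.1 hc.symm) (dvd_refl (p : ℤ))
      rwa [show (charDegree (ψ : G → ℂ) : ℤ) * D.r - -(-1 * ((p : ℤ) - 1)) + p =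
        ((charDegree (ψ : G → ℂ) * D.r : ℕ) : ℤ) + 1 by push_cast; ring] at h3
    rcases mod_neg_of_dvd hns hn hp.out.two_le (Int.emod_eq_zero_of_dvd h2) hdvd with h | h
    · exact .inl (Nat.eq_of_mul_eq_mul_right (show 0 < D.r by omega) (h.trans hp1.symm))
    · refine .inr (Nat.eq_of_mul_eq_mul_right (show 0 < D.r by omega) ?_)
      rw [h, ← hp1]; ring

theorem rel_one {ψ : IrrCharacter G} (hψ : ψ ∈ D.Y) :
    ∑ χ ∈ D.X, D.s χ * (charDegree (χ : G → ℂ) : ℤ) +
      D.δ * (charDegree (ψ : G → ℂ) : ℤ) = 0 := by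
  have h := D.relY ψ hψ 1 (by rw [orderOf_one]; exact hp.out.not_dvd_one)
  simp only [charDeg_spec'] at h
  exact_mod_cast h

theorem rel_one_empty (hY : D.Y = ∅) :
    ∑ χ ∈ D.X, D.s χ * (charDegree (χ : G → ℂ) : ℤ) = 0 := by
  have h := D.relX hY 1 (by rw [orderOf_one]; exact hp.out.not_dvd_one)
  simp only [charDeg_spec'] at h
  exact_mod_cast h

/-- Some member has degree `p - 1`. -/
theorem exists_small (hperf : commutator G = ⊤) (hns : ¬ Shape p n) (hn : 0 < n) :
    ∃ χ ∈ D.X, χ ≠ trivialIrr G ∧ charDegree (χ : G → ℂ) = p - 1 := by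
  classical
  by_contra hcon
  push Not at hcon
  have hN : (2 : ℤ) ≤ (1 + n * p : ℕ) := by
    have := Nat.mul_le_mul hn hp.out.two_le
    omega
  have hd : ∀ χ ∈ D.X.erase (trivialIrr G),
      ((1 + n * p : ℕ) : ℤ) ∣ D.s χ * (charDegree (χ : G → ℂ) : ℤ) := fun χ hχ => by
    obtain ⟨hne, hmem⟩ := Finset.mem_erase.1 hχ
    refine Dvd.dvd.mul_left (Int.natCast_dvd_natCast.2 ?_) _
    rcases D.degX hperf hns hn hmem hne with ⟨-, h⟩ | ⟨-, h | h⟩
    · rw [h]
    · exact absurd h (hcon χ hmem hne)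
    · rw [h]; exact dvd_mul_left _ _
  have htd : D.s (trivialIrr G) * (charDegree (trivialIrr G : G → ℂ) : ℤ) = 1 := by
    rw [D.s_triv, show charDegree (trivialIrr G : G → ℂ) = 1 from Nat.cast_injective (R := ℂ)
      ((charDeg_spec' (trivialIrr G)).symm.trans (Nat.cast_one (R := ℂ)).symm)]
    norm_num
  have hsum : ((1 + n * p : ℕ) : ℤ) ∣ ∑ χ ∈ D.X, D.s χ * (charDegree (χ : G → ℂ) : ℤ) - 1 := by
    rw [← Finset.add_sum_erase _ _ D.triv, htd, add_sub_cancel_left]
    exact Finset.dvd_sum hd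
  rcases D.shape with ⟨-, hY, -⟩ | ⟨hr, -, hY⟩
  · rw [D.rel_one_empty hY, zero_sub, dvd_neg] at hsum
    have := Int.le_of_dvd one_pos hsum
    omega
  · obtain ⟨ψ, hψ⟩ := Finset.card_pos.1 (show 0 < D.Y.card by omega)
    rw [eq_neg_of_add_eq_zero_left (D.rel_one hψ)] at hsum
    have he := D.e_le
    have he2 := D.two_le
    have hnp := Nat.le_mul_of_pos_left p hn
    rcases D.degY hns hn hψ with ⟨hs, h⟩ | ⟨hs, h | h⟩ <;> rw [hs] at hsum
    · have h1 : (charDegree (ψ : G → ℂ) : ℤ) ∣ 1 := by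
        have h2 : (charDegree (ψ : G → ℂ) : ℤ) ∣ ((1 + n * p : ℕ) : ℤ) :=
          Int.natCast_dvd_natCast.2 (h ▸ dvd_mul_right _ _)
        have h3 := h2.trans hsum
        rw [one_mul, ← dvd_neg, neg_sub, sub_neg_eq_add] at h3
        exact (Int.dvd_add_left (dvd_refl _)).1 h3
      rw [Nat.eq_one_of_dvd_one (Int.natCast_dvd_natCast.1 h1), one_mul] at h
      have := Nat.le_mul_of_pos_left D.r (show 0 < D.e by omega)
      have := D.her
      omega
    · rw [neg_one_mul, neg_neg, h] at hsum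
      have := Int.le_of_dvd (by omega) hsum
      omega
    · rw [neg_one_mul, neg_neg, h, Nat.cast_mul] at hsum
      have h2 : ((1 + n * p : ℕ) : ℤ) ∣ 1 := (dvd_sub_right (dvd_mul_left _ _)).1 hsum
      have := Int.le_of_dvd one_pos h2
      omega

/-- An element of order `p` generates its centralizer. -/
theorem hyp (hperf : commutator G = ⊤) (hcore : pPrimeCore p G = ⊥) (hns : ¬ Shape p n)
    (hn : 0 < n) : SCP.Hyp p D.u₀ := by
  classical
  obtain ⟨χ, hχ, hne, hdeg⟩ := D.exists_small hperf hns hn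
  set P := (D.Q : Subgroup G) with hP
  have hQ := D.card_Q
  have hord : orderOf D.u₀ = p := DefectOne.orderOf_gen hQ D.mem_u₀ D.u₀_ne
  have hcomm : ∀ v ∈ BP.CG P, Commute D.u₀ v := fun v hv =>
    Subgroup.mem_centralizer_iff.1 hv D.u₀ D.mem_u₀
  have hreg : ∀ v ∈ BP.CG P, ¬ p ∣ orderOf v → v = 1 := by
    intro v hv hvr
    refine regular_eq_one (D.faith hperf hcore hχ hne)
      (by rw [hdeg]; have := hp.out.pos; omega) hord (hcomm v hv) hvr fun i hi => ?_
    have hu : D.u₀ ^ i ∈ P := pow_mem D.mem_u₀ i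
    have hu1 : D.u₀ ^ i ≠ 1 := fun h => hi (hord ▸ orderOf_dvd_of_pow_eq_one h)
    exact D.constX χ hχ _ hu hu1 v hv hvr
  have hfac : (Nat.card G).factorization p = 1 := by
    have h1 := D.Q.card_eq_multiplicity
    rw [show Nat.card (D.Q : Subgroup G) = p from hQ] at h1
    exact ((Nat.pow_eq_self_iff hp.out.one_lt).1 h1.symm)
  have hCP : IsPGroup p (BP.CG P) := by
    intro c
    obtain ⟨a, m, hm, he⟩ :=
      Nat.exists_eq_pow_mul_and_not_dvd (orderOf_pos (c : G)).ne' p hp.out.ne_one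
    refine ⟨a, Subtype.ext ?_⟩
    show (c : G) ^ p ^ a = 1
    refine hreg _ (pow_mem c.2 _) ?_
    rw [orderOf_pow' _ (pow_ne_zero _ hp.out.ne_zero), he, Nat.gcd_mul_right_left,
      Nat.mul_div_cancel_left _ (pow_pos hp.out.pos a)]
    exact hm
  have hC : BP.CG P = P := by
    obtain ⟨k, hk⟩ := IsPGroup.iff_card.1 hCP
    refine (Subgroup.eq_of_le_of_card_ge (DefectOne.le_cg hQ) ?_).symm
    have h1 := Subgroup.card_subgroup_dvd_card (BP.CG P)
    rw [hk, hp.out.pow_dvd_iff_le_factorization Nat.card_pos.ne', hfac] at h1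
    rw [hk, hQ]
    exact (Nat.pow_le_pow_right hp.out.pos h1).trans_eq (pow_one p)
  refine ⟨hord, ?_⟩
  have h1 : Subgroup.centralizer ((Subgroup.zpowers D.u₀ : Subgroup G) : Set G) =
      Subgroup.centralizer ({D.u₀} : Set G) := by
    rw [Subgroup.zpowers_eq_closure, Subgroup.centralizer_closure]
  rw [← h1, DefectOne.mem_zpowers_of_prime hQ D.mem_u₀ D.u₀_ne]
  exact hC

theorem e_x (h : SCP.Hyp p D.u₀) : SCP.e D.u₀ = D.e := by
  have hP : Subgroup.zpowers D.u₀ = (D.Q : Subgroup G) :=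
    DefectOne.mem_zpowers_of_prime D.card_Q D.mem_u₀ D.u₀_ne
  have hC : BP.CG (D.Q : Subgroup G) = (D.Q : Subgroup G) := by
    have h1 := SCP.cent_P h
    unfold SCP.P at h1
    rw [hP] at h1
    exact h1
  rw [← D.e_eq, hC, ← hP]
  rfl

theorem card (h : SCP.Hyp p D.u₀) : Nat.card G = p * (D.e * (1 + n * p)) := by
  have hP : Subgroup.zpowers D.u₀ = (D.Q : Subgroup G) :=
    DefectOne.mem_zpowers_of_prime D.card_Q D.mem_u₀ D.u₀_ne
  have hN : (SCP.N D.u₀).index = 1 + n * p := by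
    rw [← D.idx, ← hP]
  rw [← Subgroup.card_mul_index (SCP.N D.u₀), SCP.card_N h, D.e_x h, hN, mul_assoc]

/-- The final shape of the degrees. -/
theorem final (hperf : commutator G = ⊤) (hns : ¬ Shape p n) (hn : 0 < n) (h : SCP.Hyp p D.u₀)
    {χ : IrrCharacter G} (hχ : χ ∈ D.X) (hne : χ ≠ trivialIrr G) :
    (D.s χ = 1 ∧ charDegree (χ : G → ℂ) = 1 + n * p) ∨
      (D.s χ = -1 ∧ charDegree (χ : G → ℂ) = p - 1) := by
  refine (D.degX hperf hns hn hχ hne).imp_right fun ⟨hs, hd⟩ => ⟨hs, hd.resolve_right fun hd => ?_⟩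
  have h1 := Few.deg_sq_lt hne
  rw [hd, D.card h] at h1
  have he := D.e_le
  have hnp := Nat.le_mul_of_pos_left p hn
  have hp2 := hp.out.two_le
  have h2 : p * (D.e * (1 + n * p)) ≤ (1 + n * p) * ((p - 1) * (1 + n * p)) :=
    Nat.mul_le_mul (by omega) (Nat.mul_le_mul_right _ (by omega))
  have h3 : (1 + n * p) * ((p - 1) * (1 + n * p)) ≤
      (p - 1) * (1 + n * p) * ((p - 1) * (1 + n * p)) :=
    Nat.mul_le_mul_right _ (Nat.le_mul_of_pos_left _ (by omega))
  omega

theorem finalY (hns : ¬ Shape p n) (hn : 0 < n) (h : SCP.Hyp p D.u₀)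
    {ψ : IrrCharacter G} (hψ : ψ ∈ D.Y) :
    (D.δ = 1 ∧ charDegree (ψ : G → ℂ) * D.r = 1 + n * p) ∨
      (D.δ = -1 ∧ charDegree (ψ : G → ℂ) = D.e) := by
  refine (D.degY hns hn hψ).imp_right fun ⟨hs, hd⟩ => ⟨hs, hd.resolve_right fun hd => ?_⟩
  have he := D.two_le
  have hnp := Nat.le_mul_of_pos_left p hn
  have hne : ψ ≠ trivialIrr G := fun e1 => by
    rw [e1, show charDegree (trivialIrr G : G → ℂ) = 1 from Nat.cast_injective (R := ℂ)
      ((charDeg_spec' (trivialIrr G)).symm.trans (Nat.cast_one (R := ℂ)).symm)] at hd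
    have := Nat.eq_one_of_dvd_one (Dvd.intro (1 + n * p) hd.symm)
    omega
  have h1 := Few.deg_sq_lt hne
  rw [hd, D.card h] at h1
  have h2 : p ≤ D.e * (1 + n * p) := le_trans (by omega) (Nat.le_mul_of_pos_left _ (by omega))
  have := Nat.mul_le_mul_right (D.e * (1 + n * p)) h2
  omega


include D in
/-- An element whose order is a multiple of `e`. -/
theorem exists_elem : ∃ w : G, D.e ∣ orderOf w := by
  set P := (D.Q : Subgroup G) with hP
  haveI : IsCyclic P := isCyclic_of_prime_card D.card_Q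
  set f := P.normalizerMonoidHom
  haveI : Fact (Nat.card P).Prime := ⟨by rw [hP, D.card_Q]; exact hp.out⟩
  haveI : IsCyclic (MulAut P) :=
    isCyclic_of_injective (IsCyclic.mulAutMulEquiv P).toMonoidHom
      (IsCyclic.mulAutMulEquiv P).injective
  obtain ⟨⟨_, w, rfl⟩, hgen⟩ := IsCyclic.exists_generator (α := f.range)
  refine ⟨(w : G), ?_⟩
  have h1 : Nat.card f.range = D.e := by
    rw [← Subgroup.index_ker, Subgroup.normalizerMonoidHom_ker]
    exact D.e_eq
  have h2 : orderOf (⟨f w, w, rfl⟩ : f.range) = D.e := by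
    rw [orderOf_eq_card_of_forall_mem_zpowers hgen, h1]
  rw [← h2, ← Subgroup.orderOf_coe, Subgroup.orderOf_coe w]
  exact orderOf_map_dvd f w

end Data

end Cfsg.Agent.Block.B10
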