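import Mathlib
import Cfsg.Agent.Lib.Block.BrauerTen.Degrees
import Cfsg.Agent.Lib.Char.NormAverage

/-!
An exceptional character of degree `(e - 1) (p - 1) - 1` with `e ≥ 3` does not occur: it takes the
value `-1` on one class of regular elements and vanishes at the others.
-/

set_option autoImplicit false
set_option linter.unusedSectionVars false
set_option linter.style.haveILetI false

namespace Cfsg.Agent.Block.B10

open scoped ComplexConjugate
open Cfsg Cfsg.Agent.Block Cfsg.Agent.Char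

universe u

variable {G : Type u} [Group G] [Fintype G] {p n : ℕ} [hp : Fact p.Prime]

theorem card_class (r : G) :
    Nat.card {g : G // IsConj r g} * Nat.card (Subgroup.centralizer ({r} : Set G)) = Nat.card G := by
  rw [← Subgroup.index_mul_card (Subgroup.centralizer ({r} : Set G))]
  congr 1
  rw [Subgroup.index_eq_card]
  refine Nat.card_congr (Equiv.ofBijective
    (Quotient.lift (fun x : G => (⟨x * r * x⁻¹, isConj_iff.2 ⟨x, rfl⟩⟩ : {g : G // IsConj r g}))
      ?_) ⟨?_, ?_⟩).symm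
  · intro a b hab
    have hc := Subgroup.mem_centralizer_singleton_iff.1 (QuotientGroup.leftRel_apply.1 hab)
    refine Subtype.ext ?_
    show a * r * a⁻¹ = b * r * b⁻¹
    calc a * r * a⁻¹ = a * (r * (a⁻¹ * b)) * b⁻¹ := by group
      _ = a * (a⁻¹ * b * r) * b⁻¹ := by rw [hc]
      _ = b * r * b⁻¹ := by group
  · rintro ⟨a⟩ ⟨b⟩ hab
    refine Quotient.sound (QuotientGroup.leftRel_apply.2
      (Subgroup.mem_centralizer_singleton_iff.2 ?_))
    have h : a * r * a⁻¹ = b * r * b⁻¹ := congrArg Subtype.val hab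
    calc a⁻¹ * b * r = a⁻¹ * (b * r * b⁻¹) * b := by group
      _ = a⁻¹ * (a * r * a⁻¹) * b := by rw [h]
      _ = r * (a⁻¹ * b) := by group
  · rintro ⟨g, hg⟩
    obtain ⟨x, rfl⟩ := isConj_iff.1 hg
    exact ⟨QuotientGroup.mk x, rfl⟩

theorem exceptional_false (D : Data G p n) (h : SCP.Hyp p D.u₀) {ψ : IrrCharacter G} (hψ : ψ ∈ D.Y) (hδ : D.δ = 1)
    (hzr : charDegree (ψ : G → ℂ) * D.r = 1 + n * p) (he3 : 3 ≤ D.e)
    (hz1 : charDegree (ψ : G → ℂ) + 1 = (D.e - 1) * (p - 1)) : False := by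
  classical
  set z := charDegree (ψ : G → ℂ) with hz
  have he := D.e_le
  have hp1 : D.e * D.r = p - 1 := by have := D.her; omega
  have hzbig : 2 * (p - 1) ≤ z + 1 := hz1 ▸ Nat.mul_le_mul_right _ (by omega)
  have hcard : Nat.card G = p * ((p - 1) * z) := by
    rw [D.card h, ← hzr, ← hp1]; ring
  have hne : ψ ≠ trivialIrr G := fun e1 => by
    rw [hz, e1, show charDegree (trivialIrr G : G → ℂ) = 1 from Nat.cast_injective (R := ℂ)
      ((charDeg_spec' (trivialIrr G)).symm.trans (Nat.cast_one (R := ℂ)).symm)] at hzbig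
    omega
  have hpd : ¬ p ∣ z := fun hd => by
    have h1 : p ∣ 1 + n * p := hzr ▸ hd.mul_right D.r
    exact hp.out.not_dvd_one ((Nat.dvd_add_left (dvd_mul_left p n)).1 h1)
  have hq : ∀ {q : ℕ}, q.Prime → q ∣ z → ¬ q ∣ p * (p - 1) := by
    intro q hqp hqz hd
    rcases hqp.dvd_mul.1 hd with h1 | h1
    · exact hpd ((Nat.prime_dvd_prime_iff_eq hqp hp.out).1 h1 ▸ hqz)
    · have h2 : q ∣ z + 1 := hz1 ▸ h1.mul_left _
      exact hqp.not_dvd_one ((Nat.dvd_add_right hqz).1 h2)
  have hvan : ∀ {q : ℕ}, q.Prime → q ∣ z → ∀ g : G, q ∣ orderOf g → (ψ : G → ℂ) g = 0 :=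
    fun hqp hqz g hg => Few.vanish hqp ψ (r := p * (p - 1)) (by rw [hcard, ← hz]; ring)
      (hq hqp hqz) hg
  -- the three parts of the group
  set R0 := Finset.univ.filter (fun g : G => g ≠ 1 ∧ orderOf g ≠ p) with hR0
  have hreg : ∀ g ∈ R0, g ≠ 1 ∧ ¬ p ∣ orderOf g := fun g hg => by
    obtain ⟨h1, h2⟩ := (Finset.mem_filter.1 hg).2
    exact ⟨h1, fun hd => h2 (Few.ord_eq_p h hd)⟩
  have hsplit : ∀ F : G → ℂ, ∑ g, F g =
      F 1 + ∑ g ∈ Finset.univ.filter (fun g : G => orderOf g = p), F g + ∑ g ∈ R0, F g := by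
    intro F
    have h1 : Finset.univ.filter (fun g : G => orderOf g ≠ p) = insert 1 R0 := by
      ext g
      simp only [hR0, Finset.mem_insert, Finset.mem_filter, Finset.mem_univ, true_and]
      constructor
      · intro hg
        by_cases h1 : g = 1
        · exact .inl h1
        · exact .inr ⟨h1, hg⟩
      · rintro (rfl | hg)
        · rw [orderOf_one]; exact hp.out.ne_one.symm
        · exact hg.2
    rw [← Finset.sum_filter_add_sum_filter_not Finset.univ (fun g : G => orderOf g = p) F, h1,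
      Finset.sum_insert (by simp [hR0])]
    ring
  have hG0 : (Nat.card G : ℂ) ≠ 0 := Nat.cast_ne_zero.2 Nat.card_pos.ne'
  have htot : ∑ g, (ψ : G → ℂ) g = 0 := by
    have h1 := classInner_irr_ne ψ.2 (trivialIrr G).2 (fun e1 => hne (Subtype.ext e1))
    simp only [classInner, trivialIrr, map_one, mul_one] at h1
    exact (mul_eq_zero.1 h1).resolve_left (inv_ne_zero hG0)
  have htot2 : ∑ g, (ψ : G → ℂ) g * conj ((ψ : G → ℂ) g) = (Nat.card G : ℂ) := by
    have h1 := classInner_self_irr ψ.2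
    simp only [classInner] at h1
    rw [← mul_one (Nat.card G : ℂ), ← h1, mul_inv_cancel_left₀ hG0]
  have hpC : ((p - 1 : ℕ) : ℂ) = (D.e : ℂ) * (D.r : ℂ) := by rw [← hp1]; push_cast; ring
  have hpC' : (p : ℂ) = (D.e : ℂ) * (D.r : ℂ) + 1 := by exact_mod_cast D.her.symm
  have hzC : (z : ℂ) + 1 = ((D.e : ℂ) - 1) * ((p : ℂ) - 1) := by
    have h1 : ((z + 1 : ℕ) : ℂ) = (((D.e - 1) * (p - 1) : ℕ) : ℂ) := by rw [hz1]
    push_cast [Nat.cast_sub (show 1 ≤ D.e by omega), Nat.cast_sub (show 1 ≤ p by omega)] at h1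
    exact h1
  have hNC : ((1 + n * p : ℕ) : ℂ) = (z : ℂ) * (D.r : ℂ) := by rw [← hzr]; push_cast; ring
  have hS1 : ∑ g ∈ R0, (ψ : G → ℂ) g = -((p : ℂ) * z) := by
    have h1 := hsplit (ψ : G → ℂ)
    rw [htot, D.sumY ψ hψ, hδ, charDeg_spec', ← hz, hNC] at h1
    push_cast at h1
    linear_combination -h1 + (-(z : ℂ)) * hpC'.symm
  have hS2 : ∑ g ∈ R0, (ψ : G → ℂ) g * conj ((ψ : G → ℂ) g) = (p : ℂ) * z := by
    have h1 := hsplit (fun g => (ψ : G → ℂ) g * conj ((ψ : G → ℂ) g))
    rw [htot2, D.normY ψ hψ, charDeg_spec', ← hz, Complex.conj_natCast, hNC, hcard] at h1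
    push_cast at h1
    rw [hpC] at h1
    rw [hpC'] at h1 hzC ⊢
    linear_combination -h1 - (z : ℂ) * hzC
  -- the support
  set T := R0.filter (fun g => (ψ : G → ℂ) g ≠ 0) with hT
  have hTsum : ∀ F : G → ℂ, (∀ g, (ψ : G → ℂ) g = 0 → F g = 0) →
      ∑ g ∈ T, F g = ∑ g ∈ R0, F g := fun F hF =>
    Finset.sum_subset (Finset.filter_subset _ _) fun g hg hgT => hF g (by
      by_contra hcon; exact hgT (Finset.mem_filter.2 ⟨hg, hcon⟩))
  have hstab : ∀ g : G, ∀ k : ℕ, k.Coprime (Nat.card G) → (g ^ k ∈ T ↔ g ∈ T) := by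
    intro g k hk
    obtain ⟨σ, hσ⟩ := exists_galois (G := G) k hk
    have ho : orderOf (g ^ k) = orderOf g :=
      ((Nat.Coprime.coprime_dvd_right (orderOf_dvd_natCard g) hk).symm).orderOf_pow
    simp only [hT, hR0, Finset.mem_filter, Finset.mem_univ, true_and, ne_eq]
    rw [show g ^ k = 1 ↔ g = 1 by rw [← orderOf_eq_one_iff, ho, orderOf_eq_one_iff], ho, ← hσ _ (irr_isChar ψ) g,
      map_eq_zero_iff σ σ.injective]
  have hsum1 : ∑ g ∈ T, ((ψ : G → ℂ) g).re = -((p : ℝ) * z) := by
    rw [← Complex.re_sum, hTsum _ (fun g hg => hg), hS1]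
    simp
  have hsum2 : ∑ g ∈ T, Complex.normSq ((ψ : G → ℂ) g) = (p : ℝ) * z := by
    have h1 := hTsum (fun g => (ψ : G → ℂ) g * conj ((ψ : G → ℂ) g)) (fun g hg => by rw [hg, zero_mul])
    rw [hS2, Finset.sum_congr rfl fun g _ => Complex.mul_conj ((ψ : G → ℂ) g)] at h1
    exact_mod_cast h1
  have hexp : ∑ g ∈ T, Complex.normSq ((ψ : G → ℂ) g + 1) = (T.card : ℝ) - p * z := by
    rw [Finset.sum_congr rfl (g := fun g => Complex.normSq ((ψ : G → ℂ) g) +
      2 * ((ψ : G → ℂ) g).re + 1) fun g _ => by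
        simp [Complex.normSq_apply]; ring,
      Finset.sum_add_distrib, Finset.sum_add_distrib, ← Finset.mul_sum, hsum1, hsum2,
      Finset.sum_const, nsmul_one]
    ring
  have hle := NormAvg.card_le_sum (irr_isChar ψ) T hstab fun g hg => (Finset.mem_filter.1 hg).2
  rw [hsum2] at hle
  have hnn : ∀ g ∈ T, 0 ≤ Complex.normSq ((ψ : G → ℂ) g + 1) := fun g _ => Complex.normSq_nonneg _
  have hge := Finset.sum_nonneg hnn
  rw [hexp] at hge
  have hTcard : T.card = p * z := by
    have : (T.card : ℝ) = ((p * z : ℕ) : ℝ) := by push_cast; linarith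
    exact_mod_cast this
  have hval : ∀ g ∈ T, (ψ : G → ℂ) g = -1 := fun g hg => by
    have h1 := (Finset.sum_eq_zero_iff_of_nonneg hnn).1
      (by rw [hexp, hTcard]; push_cast; ring) g hg
    exact eq_neg_of_add_eq_zero_left (Complex.normSq_eq_zero.1 h1)
  -- the centralizers
  have hcent : ∀ g ∈ T, Nat.card (Subgroup.centralizer ({g} : Set G)) ∣ p - 1 := by
    intro g hg
    obtain ⟨hg1, hgp⟩ := hreg g (Finset.mem_filter.1 hg).1
    set C := Subgroup.centralizer ({g} : Set G)
    have hC : Nat.card C ∣ (p - 1) * (p * z) := by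
      rw [show (p - 1) * (p * z) = Nat.card G by rw [hcard]; ring]
      exact Subgroup.card_subgroup_dvd_card C
    have hprime : ∀ q : ℕ, q.Prime → q ∣ Nat.card C → ¬ q ∣ p * z := by
      intro q hqp hqC hd
      haveI := Fact.mk hqp
      obtain ⟨⟨y, hy⟩, hyo⟩ := exists_prime_orderOf_dvd_card' (G := C) q hqC
      rw [Subgroup.orderOf_mk] at hyo
      have hc : Commute y g := Subgroup.mem_centralizer_singleton_iff.1 hy
      rcases hqp.dvd_mul.1 hd with h1 | h1
      · obtain rfl := (Nat.prime_dvd_prime_iff_eq hqp hp.out).1 h1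
        have h2 := Subgroup.orderOf_dvd_natCard (Subgroup.centralizer ({y} : Set G))
          (Subgroup.mem_centralizer_singleton_iff.2 hc.symm.eq)
        rw [Few.cent_card h hyo] at h2
        rcases (Nat.dvd_prime hqp).1 h2 with h3 | h3
        · exact hg1 (orderOf_eq_one_iff.1 h3)
        · exact hgp (h3 ▸ dvd_refl _)
      · by_cases hqg : q ∣ orderOf g
        · exact (Finset.mem_filter.1 hg).2 (hvan hqp h1 g hqg)
        obtain ⟨M, hM⟩ := exists_isPModular q hqp
        have hcop : Nat.Coprime q (orderOf g) := hqp.coprime_iff_not_dvd.2 hqg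
        have ho : orderOf (y * g) = q * orderOf g := by
          rw [hc.orderOf_mul_eq_mul_orderOf_of_coprime (by rwa [hyo]), hyo]
        obtain ⟨B, hB1, hB2⟩ := Nat.chineseRemainder hcop 0 1
        have hgz : g ∈ Subgroup.zpowers (y * g) := by
          refine ⟨B, ?_⟩
          show (y * g) ^ (B : ℤ) = g
          rw [zpow_natCast, hc.mul_pow,
            pow_eq_pow_iff_modEq.2 (show B ≡ 0 [MOD orderOf y] by rwa [hyo]),
            pow_eq_pow_iff_modEq.2 (show B ≡ 1 [MOD orderOf g] from hB2), pow_zero, pow_one,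
            one_mul]
        have h3 := value_pPart_congr hM (irr_isChar ψ) (g := y * g) (u := y) (v := g) rfl hc (k := 1)
          (by rw [pow_one, ← hyo, pow_orderOf_eq_one]) hgz
        rw [hvan hqp h1 (y * g) (by rw [ho]; exact dvd_mul_right q _), hval g hg,
          show (0 : ℂ) - -1 = ((1 : ℤ) : ℂ) by norm_num, ideal_intCast_iff hM] at h3
        exact hqp.not_dvd_one (by exact_mod_cast h3)
    exact (Nat.coprime_of_dvd fun q hqp hqC => hprime q hqp hqC).dvd_of_dvd_mul_right hC
  have hclass : ∀ g ∈ T, ∀ g' ∈ T, IsConj g g' := by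
    intro g hg
    set K := Finset.univ.filter (fun g' : G => IsConj g g')
    have hKT : K ⊆ T := fun g' hg' => by
      obtain ⟨c, rfl⟩ := isConj_iff.1 (Finset.mem_filter.1 hg').2
      simp only [hT, hR0, Finset.mem_filter, Finset.mem_univ, true_and, ne_eq] at hg ⊢
      rw [irr_classFun ψ g c, conj_eq_one_iff, ← MulAut.conj_apply, MulEquiv.orderOf_eq]
      exact hg
    have hK : p * z ≤ K.card := by
      have h1 := card_class g
      rw [hcard, show Nat.card {g' : G // IsConj g g'} = K.card by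
        rw [Nat.card_eq_fintype_card, Fintype.card_subtype]] at h1
      have h2 := Nat.mul_le_mul_left K.card (Nat.le_of_dvd (by omega) (hcent g hg))
      rw [h1] at h2
      refine Nat.le_of_mul_le_mul_right ?_ (show 0 < p - 1 by omega)
      calc p * z * (p - 1) = p * ((p - 1) * z) := by ring
        _ ≤ _ := h2
    have hKT' : K = T := Finset.eq_of_subset_of_card_le hKT (by rw [hTcard]; exact hK)
    exact fun g' hg' => (Finset.mem_filter.1 (hKT' ▸ hg')).2
  -- the elements of order dividing `e`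
  obtain ⟨w, hw⟩ := D.exists_elem
  have hpow : ∀ d : ℕ, d ∣ D.e → ∀ g : G, orderOf g = d → ∀ v ∈ Subgroup.zpowers g, v ≠ 1 →
      v ∈ T := by
    intro d hd g hgd v hv hv1
    letI := Fintype.ofFinite (Subgroup.zpowers g)
    have hdpos : 0 < d := hgd ▸ orderOf_pos g
    have hdp : d < p := by
      have := Nat.le_of_dvd (by omega) hd
      omega
    have hmem : ∀ k : Subgroup.zpowers g, (k : G) ≠ 1 → (k : G) ∈ R0 := fun k hk => by
      refine Finset.mem_filter.2 ⟨Finset.mem_univ _, hk, fun e1 => ?_⟩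
      have h2 := Subgroup.orderOf_dvd_natCard _ k.2
      rw [e1, Nat.card_zpowers, hgd] at h2
      have := Nat.le_of_dvd hdpos h2
      omega
    obtain ⟨N, hN⟩ := IsChar.classInner_nat (IsChar.res (irr_isChar ψ) (Subgroup.zpowers g))
      (IsChar.one (G := Subgroup.zpowers g))
    have hsum : ∑ k : Subgroup.zpowers g, (ψ : G → ℂ) k = (d : ℂ) * N := by
      have hd0 : (Nat.card (Subgroup.zpowers g) : ℂ) ≠ 0 :=
        Nat.cast_ne_zero.2 Nat.card_pos.ne'
      rw [← hgd, ← Nat.card_zpowers, ← hN, classInner]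
      simp only [map_one, mul_one]
      rw [mul_inv_cancel_left₀ hd0]
    set m := (Finset.univ.filter (fun k : Subgroup.zpowers g => (k : G) ∈ T)).card with hm
    have h1T : ((1 : Subgroup.zpowers g) : G) ∉ T := fun h1 =>
      (hreg _ (Finset.mem_filter.1 h1).1).1 rfl
    have hsum' : ∑ k : Subgroup.zpowers g, (ψ : G → ℂ) k = (z : ℂ) - m := by
      rw [← Finset.add_sum_erase _ _ (Finset.mem_univ (1 : Subgroup.zpowers g)), OneMemClass.coe_one,
        charDeg_spec', ← hz, Finset.sum_congr rfl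
          (g := fun k : Subgroup.zpowers g => if (k : G) ∈ T then (-1 : ℂ) else 0) fun k hk => ?_,
        ← Finset.sum_filter, Finset.sum_const, nsmul_eq_mul,
        show (Finset.univ.erase (1 : Subgroup.zpowers g)).filter
          (fun k : Subgroup.zpowers g => (k : G) ∈ T) =
          Finset.univ.filter (fun k : Subgroup.zpowers g => (k : G) ∈ T) by
          ext k
          simp only [Finset.mem_filter, Finset.mem_erase, Finset.mem_univ, and_true, true_and,
            and_iff_right_iff_imp]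
          rintro hk rfl
          exact h1T hk, ← hm]
      · ring
      · split
        · next hkT => exact hval _ hkT
        · next hkT =>
          by_contra hne0
          exact hkT (Finset.mem_filter.2
            ⟨hmem k fun e1 => (Finset.mem_erase.1 hk).1 (Subtype.ext e1), hne0⟩)
    have hdm : (d : ℤ) ∣ (m : ℤ) + 1 := by
      have h2 : (z : ℤ) - m = (d : ℤ) * N := by
        have := hsum'.symm.trans hsum
        exact_mod_cast this
      have h3 : (d : ℤ) ∣ ((z + 1 : ℕ) : ℤ) := by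
        rw [Int.natCast_dvd_natCast, hz1, ← hp1]
        exact (hd.mul_right D.r).mul_left _
      rw [show (m : ℤ) + 1 = ((z + 1 : ℕ) : ℤ) - ((z : ℤ) - m) by push_cast; ring, h2]
      exact dvd_sub h3 (dvd_mul_right _ _)
    have hm1 : d ≤ m + 1 := Nat.le_of_dvd (by omega) (by exact_mod_cast hdm)
    have hall : Finset.univ.filter (fun k : Subgroup.zpowers g => (k : G) ∈ T) =
        Finset.univ.erase (1 : Subgroup.zpowers g) := by
      refine Finset.eq_of_subset_of_card_le (fun k hk => Finset.mem_erase.2 ⟨fun e1 => ?_,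
        Finset.mem_univ _⟩) ?_
      · exact h1T (e1 ▸ (Finset.mem_filter.1 hk).2)
      · rw [Finset.card_erase_of_mem (Finset.mem_univ _), Finset.card_univ,
          ← Nat.card_eq_fintype_card, Nat.card_zpowers, hgd, ← hm]
        omega
    have h4 : (⟨v, hv⟩ : Subgroup.zpowers g) ∈ Finset.univ.erase (1 : Subgroup.zpowers g) :=
      Finset.mem_erase.2 ⟨fun e1 => hv1 (congrArg Subtype.val e1), Finset.mem_univ _⟩
    rw [← hall] at h4
    exact (Finset.mem_filter.1 h4).2
  have hexact : ∀ d : ℕ, d ∣ D.e → 1 < d → ∃ g : G, orderOf g = d ∧ g ∈ T := by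
    intro d hd hd1
    refine ⟨w ^ (orderOf w / d), orderOf_pow_orderOf_div (orderOf_pos w).ne' (hd.trans hw), ?_⟩
    refine hpow d hd _ (orderOf_pow_orderOf_div (orderOf_pos w).ne' (hd.trans hw)) _
      (Subgroup.mem_zpowers _) fun e1 => ?_
    have h2 := orderOf_pow_orderOf_div (orderOf_pos w).ne' (hd.trans hw)
    rw [e1, orderOf_one] at h2
    omega
  obtain ⟨g, hge', hgT⟩ := hexact D.e (dvd_refl _) (by omega)
  have hord : ∀ g' ∈ T, orderOf g' = D.e := fun g' hg' => by
    obtain ⟨c, hc⟩ := isConj_iff.1 (hclass g hgT g' hg')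
    rw [← hc, ← MulAut.conj_apply, MulEquiv.orderOf_eq, hge']
  have hodd : ¬ 2 ∣ D.e := fun h2 => by
    obtain ⟨g', hg', hg'T⟩ := hexact 2 h2 (by norm_num)
    have := hord g' hg'T
    omega
  have hinvT : g⁻¹ ∈ T := hpow D.e (dvd_refl _) g hge' _ (inv_mem (Subgroup.mem_zpowers g))
    (inv_ne_one.2 (hreg g (Finset.mem_filter.1 hgT).1).1)
  obtain ⟨c, hc⟩ := isConj_iff.1 (hclass g hgT _ hinvT)
  let K : Subgroup G :=
    { carrier := {x | x * g * x⁻¹ = g ∨ x * g * x⁻¹ = g⁻¹}
      one_mem' := Or.inl (by group)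
      mul_mem' := fun {a b} ha hb => by
        simp only [Set.mem_ofPred_eq] at ha hb ⊢
        have he : a * b * g * (a * b)⁻¹ = a * (b * g * b⁻¹) * a⁻¹ := by group
        have hi : ∀ y : G, a * y⁻¹ * a⁻¹ = (a * y * a⁻¹)⁻¹ := fun y => by group
        rw [he]
        rcases hb with hb | hb <;> rw [hb]
        · exact ha
        · rw [hi]
          rcases ha with ha | ha <;> rw [ha]
          · exact Or.inr rfl
          · exact Or.inl (inv_inv g)
      inv_mem' := fun {a} ha => by
        simp only [Set.mem_ofPred_eq] at ha ⊢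
        rcases ha with ha | ha
        · refine Or.inl ?_
          calc a⁻¹ * g * a⁻¹⁻¹ = a⁻¹ * (a * g * a⁻¹) * a := by rw [ha, inv_inv]
            _ = g := by group
        · refine Or.inr ?_
          calc a⁻¹ * g * a⁻¹⁻¹ = (a⁻¹ * g⁻¹ * a)⁻¹ := by group
            _ = (a⁻¹ * (a * g * a⁻¹) * a)⁻¹ := by rw [ha]
            _ = g⁻¹ := by group }
  have hCK : Subgroup.centralizer ({g} : Set G) ≤ K := fun x hx => Or.inl
    (mul_inv_eq_iff_eq_mul.2 (Subgroup.mem_centralizer_singleton_iff.1 hx))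
  have hgg : g⁻¹ ≠ g := fun e1 => by
    have h1 : g ^ 2 = 1 := by rw [sq]; nth_rewrite 1 [← e1]; group
    have h2 := orderOf_dvd_of_pow_eq_one h1
    rw [hge'] at h2
    have := Nat.le_of_dvd two_pos h2
    omega
  have hidx : (Subgroup.centralizer ({g} : Set G)).relIndex K = 2 := by
    refine Subgroup.relIndex_eq_two_iff.2 ⟨c, Or.inr hc, fun b hb => ?_⟩
    have hmemC : ∀ x, x ∈ Subgroup.centralizer ({g} : Set G) ↔ x * g * x⁻¹ = g := fun x => by
      rw [Subgroup.mem_centralizer_singleton_iff, mul_inv_eq_iff_eq_mul]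
    simp only [hmemC, xor_iff_or_and_not_and]
    have he : b * c * g * (b * c)⁻¹ = (b * g * b⁻¹)⁻¹ := by
      calc b * c * g * (b * c)⁻¹ = b * (c * g * c⁻¹) * b⁻¹ := by group
        _ = b * g⁻¹ * b⁻¹ := by rw [hc]
        _ = _ := by group
    rw [he]
    rcases hb with hb | hb <;> rw [hb]
    · exact ⟨Or.inr rfl, fun h' => hgg h'.1⟩
    · exact ⟨Or.inl (inv_inv g), fun h' => hgg h'.2⟩
  have hC1 : p - 1 ∣ Nat.card (Subgroup.centralizer ({g} : Set G)) := by
    have h1 := card_class g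
    have hK : Nat.card {g' : G // IsConj g g'} ≤ T.card := by
      rw [Nat.card_eq_fintype_card, Fintype.card_subtype]
      refine Finset.card_le_card fun g' hg' => ?_
      obtain ⟨x, rfl⟩ := isConj_iff.1 (Finset.mem_filter.1 hg').2
      simp only [hT, hR0, Finset.mem_filter, Finset.mem_univ, true_and, ne_eq] at hgT ⊢
      rw [irr_classFun ψ g x, conj_eq_one_iff, ← MulAut.conj_apply, MulEquiv.orderOf_eq]
      exact hgT
    rw [hcard] at h1
    rw [hTcard] at hK
    have hd := Nat.le_of_dvd (by omega) (hcent g hgT)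
    suffices Nat.card (Subgroup.centralizer ({g} : Set G)) = p - 1 by rw [this]
    refine le_antisymm hd (Nat.le_of_mul_le_mul_left ?_ (show 0 < p * z from
      Nat.mul_pos hp.out.pos (by omega)))
    calc p * z * (p - 1) = p * ((p - 1) * z) := by ring
      _ = _ := h1.symm
      _ ≤ _ := Nat.mul_le_mul_right _ hK
  have h2pz : 2 ∣ p * z := by
    have h1 := (Subgroup.relIndex_mul_index hCK)
    have h3 : Nat.card K = Nat.card (Subgroup.centralizer ({g} : Set G)) * 2 := by
      rw [← hidx, ← Subgroup.card_mul_index ((Subgroup.centralizer ({g} : Set G)).subgroupOf K),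
        Nat.card_congr (Subgroup.subgroupOfEquivOfLe hCK).toEquiv]
      rfl
    have h4 : (p - 1) * 2 ∣ (p - 1) * (p * z) := by
      rw [show (p - 1) * (p * z) = Nat.card G by rw [hcard]; ring]
      exact (Nat.mul_dvd_mul_right hC1 2).trans (h3 ▸ Subgroup.card_subgroup_dvd_card K)
    exact Nat.dvd_of_mul_dvd_mul_left (by omega) h4
  have hpodd : ¬ 2 ∣ p := fun h2 => by
    have := (Nat.prime_dvd_prime_iff_eq Nat.prime_two hp.out).1 h2
    omega
  rcases Nat.prime_two.dvd_mul.1 h2pz with h2 | h2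
  · exact hpodd h2
  · exact hq Nat.prime_two h2 (Dvd.dvd.mul_left (by omega) p)

end Cfsg.Agent.Block.B10
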