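import Mathlib
import Cfsg.Agent.Lib.Block.BrauerTen.Exceptional
import Cfsg.Agent.Lib.Block.FewSylow.Main
import Cfsg.Agent.Lib.Grp.Frattini

/-!
Brauer's theorem on perfect groups with a Sylow subgroup of order `p` and `1 + n p` Sylow
subgroups: `n` has Brauer's shape unless the group modulo its core is a two-dimensional linear group.
-/

set_option autoImplicit false
set_option linter.unusedSectionVars false
set_option linter.style.haveILetI false

namespace Cfsg.Agent.Block.B10

open scoped ComplexConjugate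
open Cfsg Cfsg.Agent.Block Cfsg.Agent.Char

universe u

section

variable {G : Type u} [Group G] [Fintype G] {p n : ℕ} [hp : Fact p.Prime]

theorem deg_trivial : charDegree (trivialIrr G : G → ℂ) = 1 := Nat.cast_injective (R := ℂ)
  ((charDeg_spec' (trivialIrr G)).symm.trans (Nat.cast_one (R := ℂ)).symm)

/-- The degree relation in the two kinds of members. -/
theorem rel_count (D : Data G p n) (hperf : commutator G = ⊤) (hns : ¬ Shape p n) (hn : 0 < n)
    (h : SCP.Hyp p D.u₀) :
    ∃ a b : ℕ, a + b + 1 = D.X.card ∧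
      (∑ χ ∈ D.X, D.s χ * (charDegree (χ : G → ℂ) : ℤ)) =
        1 + (a : ℤ) * (1 + n * p : ℕ) - (b : ℤ) * ((p : ℤ) - 1) ∧
      (0 < a → 1 + n * p < p * D.e) := by
  classical
  have hne : ∀ χ ∈ D.X.erase (trivialIrr G), χ ≠ trivialIrr G := fun χ hχ => Finset.ne_of_mem_erase hχ
  have hmem : ∀ χ ∈ D.X.erase (trivialIrr G), χ ∈ D.X := fun χ hχ => Finset.mem_of_mem_erase hχ
  set A := (D.X.erase (trivialIrr G)).filter (fun χ => D.s χ = 1)
  set B := (D.X.erase (trivialIrr G)).filter (fun χ => ¬ D.s χ = 1)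
  refine ⟨A.card, B.card, ?_, ?_, fun ha => ?_⟩
  · rw [Finset.card_filter_add_card_filter_not, Finset.card_erase_of_mem D.triv]
    have := Finset.card_pos.2 ⟨_, D.triv⟩
    omega
  · rw [← Finset.add_sum_erase _ _ D.triv, D.s_triv, deg_trivial, Nat.cast_one, mul_one,
      ← Finset.sum_filter_add_sum_filter_not (D.X.erase (trivialIrr G)) (fun χ => D.s χ = 1),
      Finset.sum_congr rfl (g := fun _ => ((1 + n * p : ℕ) : ℤ)) fun χ hχ => ?_,
      Finset.sum_congr rfl (s₁ := B) (g := fun _ => -((p : ℤ) - 1)) fun χ hχ => ?_,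
      Finset.sum_const, Finset.sum_const, nsmul_eq_mul, nsmul_eq_mul]
    · ring
    · obtain ⟨hχ', hs⟩ := Finset.mem_filter.1 hχ
      rcases D.final hperf hns hn h (hmem χ hχ') (hne χ hχ') with ⟨h1, -⟩ | ⟨h1, h2⟩
      · exact absurd h1 hs
      · rw [h1, h2, Nat.cast_sub hp.out.one_le]
        push_cast; ring
    · obtain ⟨hχ', hs⟩ := Finset.mem_filter.1 hχ
      rcases D.final hperf hns hn h (hmem χ hχ') (hne χ hχ') with ⟨-, h2⟩ | ⟨h1, -⟩
      · rw [hs, h2, one_mul]
      · rw [h1] at hs; omega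
  · obtain ⟨χ, hχ⟩ := Finset.card_pos.1 ha
    obtain ⟨hχ', hs⟩ := Finset.mem_filter.1 hχ
    rcases D.final hperf hns hn h (hmem χ hχ') (hne χ hχ') with ⟨-, h2⟩ | ⟨h1, -⟩
    · have h3 := Few.deg_sq_lt (hne χ hχ')
      rw [h2, D.card h, ← mul_assoc] at h3
      exact Nat.lt_of_mul_lt_mul_right h3
    · rw [h1] at hs; omega

/-- The case `e = p - 1` does not occur. -/
theorem full_false (D : Data G p n) (hperf : commutator G = ⊤) (hns : ¬ Shape p n) (hn : 0 < n)
    (h : SCP.Hyp p D.u₀) (hr : D.r = 1) (hY : D.Y = ∅) (hX : D.X.card = p) : False := by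
  classical
  obtain ⟨a, b, hab, hsum, -⟩ := rel_count D hperf hns hn h
  rw [D.rel_one_empty hY] at hsum
  rw [hX] at hab
  have he : D.e + 1 = p := by have := D.her; rwa [hr, mul_one] at this
  have he2 := D.two_le
  have hp2 : ¬ 2 ∣ p := fun h2 => by
    have := (Nat.prime_dvd_prime_iff_eq Nat.prime_two hp.out).1 h2
    omega
  have hb : (b : ℤ) = (p : ℤ) - 1 - a := by
    have h1 : ((a + b + 1 : ℕ) : ℤ) = (p : ℤ) := by rw [hab]
    push_cast at h1; linarith
  have h1 : (a : ℤ) * (n + 1) = (p : ℤ) - 2 := by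
    have hp0 : (p : ℤ) ≠ 0 := Nat.cast_ne_zero.2 hp.out.ne_zero
    refine mul_left_cancel₀ hp0 ?_
    rw [hb] at hsum
    push_cast at hsum
    linear_combination -hsum
  have hdvd : n + 1 ∣ p - 2 := by
    have h2 : ((n + 1 : ℕ) : ℤ) ∣ ((p - 2 : ℕ) : ℤ) := by
      rw [Nat.cast_sub hp.out.two_le]
      exact ⟨a, by push_cast; linear_combination -h1⟩
    exact Int.natCast_dvd_natCast.1 h2
  have hnev : 2 ∣ n := by
    by_contra h2
    have h3 : 2 ∣ n + 1 := by omega
    have h4 := h3.trans hdvd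
    omega
  have hodd : ¬ 2 ∣ 1 + n * p := fun h2 => by
    have h3 : 2 ∣ n * p := hnev.mul_right p
    omega
  obtain ⟨w, hw⟩ := D.exists_elem
  -- a cyclic Sylow `2`-subgroup
  set v := w ^ (orderOf w / 2 ^ (Nat.card G).factorization 2) with hv
  have hfac : 2 ^ (Nat.card G).factorization 2 ∣ D.e := by
    have h2 : 2 ^ (Nat.card G).factorization 2 ∣ p * (D.e * (1 + n * p)) := by
      rw [← D.card h]; exact Nat.ordProj_dvd _ _
    exact ((Nat.Coprime.pow_left _ (Nat.prime_two.coprime_iff_not_dvd.2 hp2)).dvd_of_dvd_mul_left h2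
      |> ((Nat.Coprime.pow_left _ (Nat.prime_two.coprime_iff_not_dvd.2 hodd)).dvd_of_dvd_mul_right))
  have hvo : orderOf v = 2 ^ (Nat.card G).factorization 2 :=
    orderOf_pow_orderOf_div (orderOf_pos w).ne' (hfac.trans hw)
  haveI := Fact.mk Nat.prime_two
  let S : Sylow 2 G := Sylow.ofCard (Subgroup.zpowers v) (by rw [Nat.card_zpowers, hvo])
  have hS : IsCyclic (S : Subgroup G) := by
    show IsCyclic (Subgroup.zpowers v)
    infer_instance
  have h2G : 2 ∣ Nat.card G := by
    rw [D.card h]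
    exact Dvd.dvd.mul_left (Dvd.dvd.mul_right (by omega) _) _
  have hmin : (Nat.card G).minFac = 2 := (Nat.minFac_eq_two_iff _).2 h2G
  have hc := MonoidHom.ker_transferSylow_isComplement' S (hS.normalizer_le_centralizer hmin)
  haveI : IsMulCommutative (S : Subgroup G) :=
    ⟨⟨fun a b => by letI : CommGroup (S : Subgroup G) := IsCyclic.commGroup; exact mul_comm a b⟩⟩
  have hker : (MonoidHom.transferSylow S (hS.normalizer_le_centralizer hmin)).ker = ⊤ := by
    rw [eq_top_iff, ← hperf]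
    letI : CommGroup (S : Subgroup G) := IsCyclic.commGroup
    exact Abelianization.commutator_subset_ker
      (MonoidHom.transferSylow S (hS.normalizer_le_centralizer hmin))
  rw [hker] at hc
  have h3 := hc.card_mul_card
  rw [Subgroup.card_top] at h3
  have h4 : Nat.card (S : Subgroup G) = 1 := by
    have h5 := Nat.card_pos (α := G)
    exact Nat.eq_of_mul_eq_mul_left h5 (by rw [h3, mul_one])
  have h6 := S.dvd_card_of_dvd_card h2G
  rw [h4] at h6
  omega

/-- Otherwise there are few Sylow subgroups. -/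
theorem few (D : Data G p n) (hperf : commutator G = ⊤) (hns : ¬ Shape p n) (hn : 0 < n)
    (h : SCP.Hyp p D.u₀) : 2 * (1 + n * p) < (p + 1) * (p + 2) := by
  classical
  have hbound : 1 + n * p < p * D.e → 2 ≤ D.r → 2 * (1 + n * p) < (p + 1) * (p + 2) := by
    intro hlt hr
    have h1 := Nat.mul_le_mul_left D.e hr
    have h2 := D.her
    have h3 : p * (2 * D.e) ≤ p * p := Nat.mul_le_mul_left p (by omega)
    nlinarith
  rcases D.shape with ⟨hr, hY, hX⟩ | ⟨hr, hX, hY⟩
  · exact (full_false D hperf hns hn h hr hY hX).elim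
  obtain ⟨a, b, hab, hsum, hlt⟩ := rel_count D hperf hns hn h
  rcases Nat.eq_zero_or_pos a with ha | ha
  swap
  · exact hbound (hlt ha) hr
  obtain ⟨ψ, hψ⟩ := Finset.card_pos.1 (show 0 < D.Y.card by omega)
  have hrel := D.rel_one hψ
  rw [hsum, ha] at hrel
  rw [hX, ha, zero_add] at hab
  have he2 := D.two_le
  have hp2 := hp.out.two_le
  rcases D.finalY hns hn h hψ with ⟨hδ, hzr⟩ | ⟨hδ, hz⟩ <;> rw [hδ] at hrel
  · have hz1 : charDegree (ψ : G → ℂ) + 1 = (D.e - 1) * (p - 1) := by
      have h1 : ((charDegree (ψ : G → ℂ) + 1 : ℕ) : ℤ) = (((D.e - 1) * (p - 1) : ℕ) : ℤ) := by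
        rw [show D.e - 1 = b by omega]
        push_cast [Nat.cast_sub (show 1 ≤ p by omega)]
        push_cast at hrel
        linarith
      exact_mod_cast h1
    rcases Nat.lt_or_ge D.e 3 with he | he
    · have he' : D.e = 2 := by omega
      have h2 := D.her
      rw [he'] at hz1 h2
      have h3 : charDegree (ψ : G → ℂ) + 1 = p - 1 := by
        simpa only [show (2 : ℕ) - 1 = 1 from rfl, one_mul] using hz1
      calc 2 * (1 + n * p) = charDegree (ψ : G → ℂ) * (2 * D.r) := by rw [← hzr]; ring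
        _ ≤ p * p := Nat.mul_le_mul (by omega) (by omega)
        _ < _ := by ring_nf; omega
    · exact (exceptional_false D h hψ hδ hzr he hz1).elim
  · exfalso
    rw [hz] at hrel
    push_cast at hrel
    have h1 : (1 : ℤ) ≤ (b : ℤ) * ((p : ℤ) - 1) := by
      have hb : (1 : ℤ) ≤ b := by omega
      have hp' : (1 : ℤ) ≤ (p : ℤ) - 1 := by omega
      nlinarith
    have h2 : (2 : ℤ) ≤ D.e := by exact_mod_cast he2
    linarith

/-- The theorem for a trivial core. -/
theorem main_core (hperf : commutator G = ⊤) (hcore : pPrimeCore p G = ⊥) (Q : Sylow p G)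
    (hQ : Nat.card (Q : Subgroup G) = p) (hn : Nat.card (Sylow p G) = 1 + n * p)
    (hns : ¬ Shape p n) :
    (∃ (F : Type) (_ : Field F) (_ : Fintype F), Fintype.card F = p ∧ 3 < p ∧
      Nonempty (G ≃* Matrix.ProjectiveSpecialLinearGroup (Fin 2) F)) ∨
    (∃ (m : ℕ) (F : Type) (_ : Field F) (_ : Fintype F), Fintype.card F = 2 ^ m ∧ p = 2 ^ m + 1 ∧
      3 < p ∧ Nonempty (G ≃* Matrix.SpecialLinearGroup (Fin 2) F)) := by
  have hn0 : 0 < n := by
    refine Nat.pos_of_ne_zero fun h0 => Cube.no_normal_sylow hperf Q hQ ?_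
    rw [h0, zero_mul, add_zero] at hn
    haveI := (Nat.card_eq_one_iff_unique.1 hn).1
    exact Sylow.normal_of_subsingleton Q
  obtain ⟨D⟩ := exists_data hperf Q hQ hn
  have h := D.hyp hperf hcore hns hn0
  have hfew := few D hperf hns hn0 h
  rw [← hn] at hfew
  rcases Few.main hperf h hfew with h' | ⟨m, F, iF, iFt, hF, hp', hp3, ⟨e⟩⟩
  · exact .inl h'
  · refine .inr ⟨m, F, iF, iFt, hF, hp', hp3, ?_⟩
    have hm : m ≠ 0 := fun h0 => by rw [h0] at hp'; omega
    obtain ⟨f⟩ := Cube.nonempty_sl_iso_psl (F := F)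
      (by rw [hF]; exact (Nat.even_pow' hm).2 even_two)
    exact ⟨e.trans f⟩

end

/-- The theorem. -/
theorem main {G : Type u} [Group G] [Finite G] (hperf : commutator G = ⊤) {p n : ℕ} [Fact p.Prime]
    (Q : Sylow p G) (hQ : Nat.card (Q : Subgroup G) = p)
    (hn : Nat.card (Sylow p G) = 1 + n * p) (hns : ¬ Shape p n) :
    (∃ (F : Type) (_ : Field F) (_ : Fintype F), Fintype.card F = p ∧ 3 < p ∧
      Nonempty (G ⧸ pPrimeCore p G ≃* Matrix.ProjectiveSpecialLinearGroup (Fin 2) F)) ∨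
    (∃ (m : ℕ) (F : Type) (_ : Field F) (_ : Fintype F), Fintype.card F = 2 ^ m ∧ p = 2 ^ m + 1 ∧
      3 < p ∧ Nonempty (G ⧸ pPrimeCore p G ≃* Matrix.SpecialLinearGroup (Fin 2) F)) := by
  have hp : p.Prime := Fact.out
  haveI hN : (pPrimeCore p G).Normal := Grp.pPrimeCore_isNormal
  set N := pPrimeCore p G with hNdef
  have hNp : ¬ p ∣ Nat.card N := Grp.pPrimeCore_not_dvd
  set f := QuotientGroup.mk' N
  have hsurj : Function.Surjective f := QuotientGroup.mk'_surjective N
  have hperf' : commutator (G ⧸ N) = ⊤ := by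
    rw [← top_le_iff, ← Subgroup.map_top_of_surjective f hsurj, ← hperf, commutator_def,
      Subgroup.map_commutator, commutator_def]
    exact Subgroup.commutator_mono le_top le_top
  set Q' : Sylow p (G ⧸ N) := Q.mapSurjective hsurj
  have hQ' : Nat.card (Q' : Subgroup (G ⧸ N)) = p := by
    rw [Sylow.coe_mapSurjective]
    have h1 : Nat.card ((Q : Subgroup G).map f) ∣ p :=
      (Subgroup.card_map_dvd _ _).trans (dvd_of_eq hQ)
    rcases (Nat.dvd_prime hp).1 h1 with h2 | h2
    · exfalso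
      apply hNp
      rw [Subgroup.card_eq_one, (Q : Subgroup G).map_eq_bot_iff, QuotientGroup.ker_mk'] at h2
      exact hQ ▸ Subgroup.card_dvd_of_le h2
    · exact h2
  obtain ⟨m, hm⟩ : ∃ m, Nat.card (Sylow p (G ⧸ N)) = 1 + m * p := by
    refine ⟨Nat.card (Sylow p (G ⧸ N)) / p, ?_⟩
    have h1 : Nat.card (Sylow p (G ⧸ N)) % p = 1 :=
      Eq.trans (card_sylow_modEq_one p _) (Nat.one_mod_eq_one.2 hp.ne_one)
    have := Nat.div_add_mod (Nat.card (Sylow p (G ⧸ N))) p
    rw [mul_comm]
    omega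
  have hdvd : 1 + m * p ∣ 1 + n * p := by
    rw [← hn, ← hm, Q.card_eq_index_normalizer, Q'.card_eq_index_normalizer]
    have hle : Subgroup.normalizer ((Q : Subgroup G) : Set G) ≤
        (Subgroup.normalizer ((Q' : Subgroup (G ⧸ N)) : Set (G ⧸ N))).comap f := by
      intro g hg
      rw [Subgroup.mem_comap, Subgroup.mem_normalizer_iff, Sylow.coe_mapSurjective]
      have hg' := Subgroup.mem_normalizer_iff.1 hg
      intro x
      constructor
      · rintro ⟨y, hy, rfl⟩
        exact ⟨g * y * g⁻¹, (hg' y).1 hy, by rw [map_mul, map_mul, map_inv]⟩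
      · rintro ⟨y, hy, hyx⟩
        refine ⟨g⁻¹ * y * g, (hg' _).2 (by rw [show g * (g⁻¹ * y * g) * g⁻¹ = y by group]; exact hy), ?_⟩
        rw [map_mul, map_mul, map_inv, hyx]
        group
    have h1 := Subgroup.index_dvd_of_le hle
    rwa [Subgroup.index_comap_of_surjective _ hsurj] at h1
  have hmn : m = n := by
    by_contra hne
    rcases Nat.eq_zero_or_pos m with h0 | hm0
    · refine Cube.no_normal_sylow hperf' Q' hQ' ?_
      rw [h0, zero_mul, add_zero] at hm
      haveI := (Nat.card_eq_one_iff_unique.1 hm).1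
      exact Sylow.normal_of_subsingleton Q'
    · refine hns (shape_of_dvd (d := 1 + m * p) ?_ ?_ ?_ (hdvd.mul_left _))
      · have := Nat.mul_pos hm0 hp.pos; omega
      · refine lt_of_le_of_ne (Nat.le_of_dvd (by omega) hdvd) fun e1 => hne ?_
        exact Nat.eq_of_mul_eq_mul_right hp.pos (by omega)
      · rw [Nat.add_mul_mod_self_right, Nat.one_mod_eq_one.2 hp.ne_one]
  subst hmn
  cases nonempty_fintype (G ⧸ N)
  exact main_core hperf' Grp.pPrimeCore_quotient_eq_bot Q' hQ' hm hns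

end Cfsg.Agent.Block.B10
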